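import Mathlib

/-!
# Irreducible components through a point and minimal primes of the local ring
-/

set_option autoImplicit false

universe u

open CategoryTheory AlgebraicGeometry TopologicalSpace

namespace Groth.Agent.HensBranch

theorem encard_components_eq (X : Scheme.{u}) (x : X) :
    {Z : Set X | Z ∈ irreducibleComponents (X : Type u) ∧ x ∈ Z}.encard =
      ENat.card (minimalPrimes (X.presheaf.stalk x)) := by
  rw [← ENat.card_coe_set_eq]
  have hsp : ∀ {p q : Spec (X.presheaf.stalk x)},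
      (X.fromSpecStalk x) p ⤳ (X.fromSpecStalk x) q ↔ p.asIdeal ≤ q.asIdeal := fun {p q} =>
    ((X.fromSpecStalk x).isEmbedding.isInducing.specializes_iff).trans
      ((PrimeSpectrum.le_iff_specializes p q).symm.trans (PrimeSpectrum.asIdeal_le_asIdeal p q).symm)
  have hx : ∀ p : Spec (X.presheaf.stalk x), (X.fromSpecStalk x) p ⤳ x := fun p => by
    have h : (X.fromSpecStalk x) p ∈ Set.range (X.fromSpecStalk x) := ⟨p, rfl⟩
    rwa [Scheme.range_fromSpecStalk] at h
  refine (ENat.card_congr (Equiv.ofBijective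
    (fun P : minimalPrimes (X.presheaf.stalk x) =>
      (⟨closure {(X.fromSpecStalk x) (⟨P.1, P.2.1.1⟩ : Spec (X.presheaf.stalk x))}, ⟨?_, ?_⟩⟩ :
        {Z : Set X | Z ∈ irreducibleComponents (X : Type u) ∧ x ∈ Z})) ⟨?_, ?_⟩)).symm
  · refine ⟨isIrreducible_singleton.closure, fun Z hZ hle => ?_⟩
    let p : Spec (X.presheaf.stalk x) := ⟨P.1, P.2.1.1⟩
    obtain ⟨ζ, hζ⟩ := QuasiSober.sober hZ.closure isClosed_closure
    have h1 : ζ ⤳ (X.fromSpecStalk x) p :=
      hζ.specializes (subset_closure (hle (subset_closure rfl)))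
    obtain ⟨r, rfl⟩ : ζ ∈ Set.range (X.fromSpecStalk x) := by
      rw [Scheme.range_fromSpecStalk]; exact h1.trans (hx p)
    have : r = p := PrimeSpectrum.ext (le_antisymm (hsp.mp h1) (P.2.2 ⟨r.2, bot_le⟩ (hsp.mp h1)))
    subst this
    exact subset_closure.trans hζ.def.ge
  · exact specializes_iff_mem_closure.mp (hx _)
  · intro P Q h
    have h' : closure {(X.fromSpecStalk x) (⟨P.1, P.2.1.1⟩ : Spec (X.presheaf.stalk x))} =
        closure {(X.fromSpecStalk x) (⟨Q.1, Q.2.1.1⟩ : Spec (X.presheaf.stalk x))} :=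
      congrArg Subtype.val h
    refine Subtype.ext (le_antisymm
      ((hsp (p := ⟨P.1, P.2.1.1⟩) (q := ⟨Q.1, Q.2.1.1⟩)).mp (specializes_iff_mem_closure.mpr ?_))
      ((hsp (p := ⟨Q.1, Q.2.1.1⟩) (q := ⟨P.1, P.2.1.1⟩)).mp (specializes_iff_mem_closure.mpr ?_)))
    · rw [h']; exact subset_closure rfl
    · rw [← h']; exact subset_closure rfl
  · rintro ⟨Z, hZ, hxZ⟩
    obtain ⟨ζ, hζ⟩ := QuasiSober.sober hZ.1 (isClosed_of_mem_irreducibleComponents Z hZ)
    obtain ⟨p, rfl⟩ : ζ ∈ Set.range (X.fromSpecStalk x) := by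
      rw [Scheme.range_fromSpecStalk]; exact hζ.specializes hxZ
    have hp : p.asIdeal ∈ minimalPrimes (X.presheaf.stalk x) := by
      refine ⟨⟨p.2, bot_le⟩, fun q hq hle => ?_⟩
      let r : Spec (X.presheaf.stalk x) := ⟨q, hq.1⟩
      have h1 : (X.fromSpecStalk x) r ⤳ (X.fromSpecStalk x) p := hsp.mpr hle
      have h2 : Z ⊆ closure {(X.fromSpecStalk x) r} := by
        rw [← hζ.def]
        exact closure_minimal (Set.singleton_subset_iff.2 h1.mem_closure) isClosed_closure
      have h3 : (X.fromSpecStalk x) r ∈ Z := hZ.2 isIrreducible_singleton.closure h2 (subset_closure rfl)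
      exact (hsp (p := p) (q := r)).mp (hζ.specializes h3)
    exact ⟨⟨p.asIdeal, hp⟩, Subtype.ext hζ.def⟩

end Groth.Agent.HensBranch
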