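import Groth.Agent.HensBranch.Branches

/-!
# Minimal primes of the henselization and of its stages
-/

set_option autoImplicit false
set_option linter.style.haveILetI false
set_option linter.unusedSectionVars false

universe u

open IsLocalRing

namespace Groth.Agent.HensBranch

open Henselization

noncomputable section

variable {R : Type u} [CommRing R] {K : Type u} [Field K] [Algebra R K] [IsLocalRing R]
  [Algebra (ResidueField R) K] [IsScalarTower R (ResidueField R) K]

attribute [local instance] algebraStage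

lemma comap_ι_mem_minimalPrimes (i : Idx R K) {P : Ideal (Hz R K)} (hP : P ∈ minimalPrimes (Hz R K)) :
    P.comap (ι i).toRingHom ∈ minimalPrimes i.L :=
  BranchLib.comap_mem_minimalPrimes i.L (Hz R K) hP

lemma exists_minimalPrime_over_stage (i : Idx R K) {p : Ideal i.L} (hp : p ∈ minimalPrimes i.L) :
    ∃ P ∈ minimalPrimes (Hz R K), P.comap (ι i).toRingHom = p := by
  haveI := hp.1.1
  obtain ⟨Q, hQ⟩ := PrimeSpectrum.comap_surjective_of_faithfullyFlat (A := i.L) (B := Hz R K)
    ⟨p, inferInstance⟩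
  obtain ⟨P, hP, hPQ⟩ := Ideal.exists_minimalPrimes_le (J := Q.asIdeal) (bot_le : ⊥ ≤ Q.asIdeal)
  refine ⟨P, hP, ?_⟩
  have h2 : P.comap (ι i).toRingHom ≤ p :=
    (Ideal.comap_mono hPQ).trans (le_of_eq (congrArg PrimeSpectrum.asIdeal hQ))
  exact le_antisymm h2 (hp.2 (comap_ι_mem_minimalPrimes i hP).1 h2)

lemma card_stage_le (i : Idx R K) :
    ENat.card (minimalPrimes i.L) ≤ ENat.card (minimalPrimes (Hz R K)) := by
  let F : minimalPrimes (Hz R K) → minimalPrimes i.L := fun P => ⟨_, comap_ι_mem_minimalPrimes i P.2⟩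
  have hF : Function.Surjective F := fun p => by
    obtain ⟨P, hP, hPp⟩ := exists_minimalPrime_over_stage i p.2
    exact ⟨⟨P, hP⟩, Subtype.ext hPp⟩
  exact ENat.card_le_card_of_injective (Function.injective_surjInv hF)

/-- Finitely many minimal primes are separated at a stage. -/
lemma exists_stage_injOn (T : Finset (minimalPrimes (Hz R K))) :
    ∃ i : Idx R K, Set.InjOn (fun P : minimalPrimes (Hz R K) => P.1.comap (ι i).toRingHom) ↑T := by
  classical
  have hsep : ∀ P Q : minimalPrimes (Hz R K), ∃ x : Hz R K, P ≠ Q → x ∈ P.1 ∧ x ∉ Q.1 := fun P Q => by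
    by_cases h : P = Q
    · exact ⟨0, fun h' => absurd h h'⟩
    · obtain ⟨x, hx, hx'⟩ := Set.not_subset.mp fun hle => h (Subtype.ext (le_antisymm hle (Q.2.2 P.2.1 hle)))
      exact ⟨x, fun _ => ⟨hx, hx'⟩⟩
  choose x hx using hsep
  obtain ⟨i, hi⟩ := exists_lift_finset ((T ×ˢ T).image fun q => x q.1 q.2)
  refine ⟨i, fun P hP Q hQ hPQ => ?_⟩
  by_contra hne
  obtain ⟨y, hy⟩ := hi (x P Q) (Finset.mem_image.mpr ⟨(P, Q), Finset.mem_product.mpr ⟨hP, hQ⟩, rfl⟩)
  obtain ⟨h1, h2⟩ := hx P Q hne
  have h3 : y ∈ P.1.comap (ι i).toRingHom := (hy ▸ h1 : ι i y ∈ P.1)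
  exact h2 (hy ▸ ((SetLike.ext_iff.mp hPQ y).mp h3 : ι i y ∈ Q.1))

theorem card_minimalPrimes_eq_iSup :
    ENat.card (minimalPrimes (Hz R K)) = ⨆ i : Idx R K, ENat.card (minimalPrimes i.L) := by
  refine le_antisymm ?_ (iSup_le card_stage_le)
  have key : ∀ T : Finset (minimalPrimes (Hz R K)),
      (T.card : ℕ∞) ≤ ⨆ i : Idx R K, ENat.card (minimalPrimes i.L) := fun T => by
    obtain ⟨i, hi⟩ := exists_stage_injOn T
    refine le_iSup_of_le i ?_
    have h := ENat.card_le_card_of_injective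
      (f := fun P : T => (⟨_, comap_ι_mem_minimalPrimes i P.1.2⟩ : minimalPrimes i.L))
      fun P Q h => Subtype.ext (hi P.2 Q.2 (congrArg Subtype.val h))
    rw [ENat.card_eq_coe_fintype_card, Fintype.card_coe] at h
    exact h
  by_cases hfin : Finite (minimalPrimes (Hz R K))
  · haveI := Fintype.ofFinite (minimalPrimes (Hz R K))
    simpa using key Finset.univ
  · haveI : Infinite (minimalPrimes (Hz R K)) := not_finite_iff_infinite.mp hfin
    rw [ENat.card_eq_top_of_infinite]
    refine top_le_iff.mpr (ENat.eq_top_iff_forall_ge.mpr fun n => ?_)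
    obtain ⟨T, hT⟩ := Infinite.exists_subset_card_eq (minimalPrimes (Hz R K)) n
    exact hT ▸ key T

end

end Groth.Agent.HensBranch
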