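import Groth.Agent.HensBranch.Model
import Groth.Agent.HensBranch.Stage
import Groth.Agent.HensBranch.CompStalk
import Groth.Agent.UnivHomeo.Basic
import Groth.Prelude.Def_Hens2

/-!
# Etale neighbourhoods and stages of the henselization of a local ring of a scheme
-/

set_option autoImplicit false
set_option linter.style.haveILetI false
set_option linter.unusedSectionVars false
set_option backward.isDefEq.respectTransparency false
set_option backward.defeqAttrib.useBackward true

universe u

open CategoryTheory CategoryTheory.Limits AlgebraicGeometry IsLocalRing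

namespace Groth.Agent.HensBranch

open Henselization

noncomputable section

/-- An etale neighbourhood with a point is a stage. -/
theorem exists_idx_of_nbhd {U X : Scheme.{u}} (g : U ⟶ X) [Etale g] (u : U) {K : Type u} [Field K]
    [Algebra (X.presheaf.stalk (g u)) K] (σ₀ : U.presheaf.stalk u →+* K)
    (hσc : σ₀.comp (g.stalkMap u).hom = algebraMap (X.presheaf.stalk (g u)) K)
    (hσ : ∀ z, σ₀ z = 0 ↔ z ∈ maximalIdeal (U.presheaf.stalk u)) :
    ∃ j : Idx (X.presheaf.stalk (g u)) K,
      {Z : Set U | Z ∈ irreducibleComponents (U : Type u) ∧ u ∈ Z}.encard =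
        ENat.card (minimalPrimes j.L) := by
  obtain ⟨_, ⟨W : X.Opens, hW, rfl⟩, hxW, -⟩ :=
    X.isBasis_affineOpens.exists_subset_of_mem_open (Set.mem_univ (g u)) isOpen_univ
  obtain ⟨_, ⟨V : U.Opens, hV, rfl⟩, huV, hVW⟩ :=
    U.isBasis_affineOpens.exists_subset_of_mem_open (a := u) (u := ↑(g ⁻¹ᵁ W)) hxW (g ⁻¹ᵁ W).2
  have het := g.etale_appLE hW hV hVW
  algebraize [(g.appLE W V hVW).hom]
  letI : Algebra Γ(U, V) (U.presheaf.stalk u) :=
    TopCat.Presheaf.algebra_section_stalk U.presheaf ⟨u, huV⟩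
  letI : Algebra Γ(X, W) (X.presheaf.stalk (g u)) :=
    TopCat.Presheaf.algebra_section_stalk X.presheaf ⟨g u, hxW⟩
  haveI : IsLocalization.AtPrime (U.presheaf.stalk u) (hV.primeIdealOf ⟨u, huV⟩).asIdeal :=
    hV.isLocalization_stalk ⟨u, huV⟩
  haveI : IsLocalization.AtPrime (X.presheaf.stalk (g u)) (hW.primeIdealOf ⟨g u, hxW⟩).asIdeal :=
    hW.isLocalization_stalk ⟨g u, hxW⟩
  letI : Algebra (X.presheaf.stalk (g u)) (U.presheaf.stalk u) := (g.stalkMap u).hom.toAlgebra
  letI : Algebra Γ(X, W) (U.presheaf.stalk u) :=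
    ((U.presheaf.germ V u huV).hom.comp (g.appLE W V hVW).hom).toAlgebra
  haveI : IsScalarTower Γ(X, W) Γ(U, V) (U.presheaf.stalk u) := .of_algebraMap_eq fun _ => rfl
  haveI : IsScalarTower Γ(X, W) (X.presheaf.stalk (g u)) (U.presheaf.stalk u) :=
    .of_algebraMap_eq fun r => by
      show U.presheaf.germ V u huV (g.appLE W V hVW r) =
        g.stalkMap u (X.presheaf.germ W (g u) hxW r)
      rw [Scheme.Hom.germ_stalkMap_apply, Scheme.Hom.appLE, CommRingCat.comp_apply,
        U.presheaf.germ_res_apply]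
  let σ : U.presheaf.stalk u →ₐ[X.presheaf.stalk (g u)] K :=
    { toRingHom := σ₀, commutes' := fun r => RingHom.congr_fun hσc r }
  obtain ⟨j, ⟨e⟩⟩ := exists_idx_of_localization (C := Γ(X, W)) (R := X.presheaf.stalk (g u))
    (hW.primeIdealOf ⟨g u, hxW⟩).asIdeal (B := Γ(U, V)) (L := U.presheaf.stalk u)
    (hV.primeIdealOf ⟨u, huV⟩).asIdeal σ hσ
  exact ⟨j, (encard_components_eq U u).trans (card_minimalPrimes_congr e)⟩

/-- A stage is an etale neighbourhood. -/
theorem exists_nbhd_of_idx {X : Scheme.{u}} (x : X) {K : Type u} [Field K]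
    [Algebra (X.presheaf.stalk x) K] [Algebra (ResidueField (X.presheaf.stalk x)) K]
    [IsScalarTower (X.presheaf.stalk x) (ResidueField (X.presheaf.stalk x)) K]
    (i : Idx (X.presheaf.stalk x) K) :
    ∃ (U : Scheme.{u}) (g : U ⟶ X) (u : U), Etale g ∧ g u = x ∧
      (Function.Surjective (algebraMap (X.presheaf.stalk x) K) →
        Function.Bijective (g.residueFieldMap u)) ∧
      {Z : Set U | Z ∈ irreducibleComponents (U : Type u) ∧ u ∈ Z}.encard =
        ENat.card (minimalPrimes i.L) := by
  obtain ⟨_, ⟨W : X.Opens, hW, rfl⟩, hxW, -⟩ :=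
    X.isBasis_affineOpens.exists_subset_of_mem_open (Set.mem_univ x) isOpen_univ
  let C : Type u := Γ(X, W)
  letI : Algebra C (X.presheaf.stalk x) :=
    TopCat.Presheaf.algebra_section_stalk X.presheaf ⟨x, hxW⟩
  let p := (hW.primeIdealOf ⟨x, hxW⟩).asIdeal
  haveI : IsLocalization.AtPrime (X.presheaf.stalk x) p := hW.isLocalization_stalk ⟨x, hxW⟩
  obtain ⟨B, _, _, _, q, _, χ, hχC, hq, ⟨e⟩⟩ := exists_etale_model (C := C) (R := X.presheaf.stalk x) p i
  let φ := algebraMap C B
  let g₀ : Spec (CommRingCat.of B) ⟶ Spec (CommRingCat.of C) := Spec.map (CommRingCat.ofHom φ)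
  haveI : Etale g₀ := by
    rw [HasRingHomProperty.Spec_iff (P := @Etale)]
    exact RingHom.etale_algebraMap.mpr inferInstance
  let o : Spec (CommRingCat.of C) ⟶ X := hW.fromSpec
  haveI : IsOpenImmersion o := hW.isOpenImmersion_fromSpec
  let u : Spec (CommRingCat.of B) := ⟨q, inferInstance⟩
  have hqp : q.comap φ = p := by
    rw [hq, Ideal.comap_comap, hχC, ← Ideal.comap_comap,
      show (maximalIdeal i.L).comap (algebraMap (X.presheaf.stalk x) i.L) =
        maximalIdeal (X.presheaf.stalk x) from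
          ((IsLocalRing.local_hom_TFAE (algebraMap (X.presheaf.stalk x) i.L)).out 0 4 rfl rfl).mp
            (inferInstance : IsLocalHom (algebraMap (X.presheaf.stalk x) i.L))]
    exact IsLocalization.AtPrime.comap_maximalIdeal (X.presheaf.stalk x) p
  have hu0 : g₀ u = hW.primeIdealOf ⟨x, hxW⟩ := PrimeSpectrum.ext hqp
  have hux : (g₀ ≫ o) u = x := by
    rw [Scheme.Hom.comp_apply, hu0]
    exact hW.fromSpec_primeIdealOf _
  refine ⟨_, g₀ ≫ o, u, inferInstance, hux, fun hK => ?_, ?_⟩
  · refine ⟨RingHom.injective _, ?_⟩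
    have hev : ∀ b : B, ∃ z, g₀.residueFieldMap u z = UnivHomeo.ev u b := by
      intro b
      obtain ⟨r, hr⟩ := hK (i.ε (χ b))
      obtain ⟨⟨c, d⟩, hcd⟩ := IsLocalization.surj p.primeCompl r
      have hmem : φ d * b - φ c ∈ q := by
        rw [hq, Ideal.mem_comap, Idx.mem_maximalIdeal_iff, map_sub, map_mul, map_sub, map_mul]
        have h1 : ∀ c : C, i.ε (χ (φ c)) = algebraMap _ K (algebraMap C (X.presheaf.stalk x) c) :=
          fun c => by
            rw [show χ (φ c) = algebraMap (X.presheaf.stalk x) i.L (algebraMap C (X.presheaf.stalk x) c) from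
              RingHom.congr_fun hχC c,
              AlgHom.commutes]
        rw [h1, h1, ← hr, ← map_mul, ← map_sub, mul_comm, hcd, sub_self, map_zero]
      have hd : UnivHomeo.ev (g₀ u) (d : C) ≠ 0 := fun h0 => d.2 (by
        have h1 := (UnivHomeo.ev_eq_zero _ _).mp h0
        rwa [hu0] at h1)
      refine ⟨UnivHomeo.ev (g₀ u) c / UnivHomeo.ev (g₀ u) (d : C), ?_⟩
      rw [map_div₀, UnivHomeo.residueFieldMap_ev φ u, UnivHomeo.residueFieldMap_ev φ u,
        div_eq_iff (fun h0 => hd ((g₀.residueFieldMap u).hom.injective (by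
          rw [map_zero, ← h0]; exact UnivHomeo.residueFieldMap_ev φ u d))),
        ← map_mul, eq_comm, ← sub_eq_zero, ← map_sub, UnivHomeo.ev_eq_zero, mul_comm]
      exact hmem
    intro z
    obtain ⟨b, s, hs, rfl⟩ := UnivHomeo.exists_div_ev u z
    obtain ⟨zb, hb⟩ := hev b
    obtain ⟨zs, hs'⟩ := hev s
    obtain ⟨w, hw⟩ := (ConcreteCategory.bijective_of_isIso (o.residueFieldMap (g₀ u))).2 (zb / zs)
    refine ⟨w, ?_⟩
    rw [Scheme.residueFieldMap_comp]
    show g₀.residueFieldMap u (o.residueFieldMap (g₀ u) w) = _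
    rw [hw, map_div₀, hb, hs']
  · rw [encard_components_eq]
    exact (card_minimalPrimes_congr
      (Spec.stalkIso (CommRingCat.of B) u).commRingCatIsoToRingEquiv).trans
      (card_minimalPrimes_congr e)

variable {X : Scheme.{u}} (x : X)

/-- Branches through etale neighbourhoods. -/
theorem numBranchesAt_eq_iSup :
    Brnch.numBranchesAt X x = ⨆ (U : Scheme.{u}) (g : U ⟶ X) (u : U) (_ : Hens2.IsEtaleNbhd g u x),
      {Z : Set U | Z ∈ irreducibleComponents (U : Type u) ∧ u ∈ Z}.encard := by
  rw [Brnch.numBranchesAt, ← card_minimalPrimes_henselization, card_minimalPrimes_eq_iSup]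
  refine le_antisymm (iSup_le fun i => ?_) (iSup_le fun U => iSup_le fun g => iSup_le fun u => iSup_le fun h => ?_)
  · obtain ⟨U, g, u, het, hux, hres, hc⟩ := exists_nbhd_of_idx x i
    rw [← hc]
    exact le_iSup_of_le U (le_iSup_of_le g (le_iSup_of_le u (le_iSup_of_le
      ⟨het, hux, hres IsLocalRing.residue_surjective⟩ le_rfl)))
  · obtain ⟨het, hux, hbij⟩ := h
    subst hux
    haveI := het
    let e := RingEquiv.ofBijective _ hbij
    obtain ⟨j, hj⟩ := exists_idx_of_nbhd g u (K := ResidueField (X.presheaf.stalk (g u)))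
      (e.symm.toRingHom.comp (U.residue u).hom) (RingHom.ext fun r => e.symm_apply_eq.mpr rfl)
      (fun z => (map_eq_zero_iff e.symm e.symm.injective).trans (IsLocalRing.residue_eq_zero_iff z))
    rw [hj]
    exact le_iSup (fun i : Idx (X.presheaf.stalk (g u)) (ResidueField (X.presheaf.stalk (g u))) =>
      ENat.card (minimalPrimes i.L)) j

/-- Geometric branches through etale neighbourhoods. -/
theorem numGeomBranchesAt_eq_iSup :
    Brnch.numGeomBranchesAt X x = ⨆ (U : Scheme.{u}) (g : U ⟶ X) (u : U) (_ : Etale g ∧ g u = x),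
      {Z : Set U | Z ∈ irreducibleComponents (U : Type u) ∧ u ∈ Z}.encard := by
  rw [Brnch.numGeomBranchesAt, ← card_minimalPrimes_strictHenselization (X.presheaf.stalk x)
    (SeparableClosure (ResidueField (X.presheaf.stalk x))), card_minimalPrimes_eq_iSup]
  refine le_antisymm (iSup_le fun i => ?_) (iSup_le fun U => iSup_le fun g => iSup_le fun u => iSup_le fun h => ?_)
  · obtain ⟨U, g, u, het, hux, -, hc⟩ := exists_nbhd_of_idx x i
    rw [← hc]
    exact le_iSup_of_le U (le_iSup_of_le g (le_iSup_of_le u (le_iSup_of_le ⟨het, hux⟩ le_rfl)))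
  · obtain ⟨het, rfl⟩ := h
    haveI := het
    let A := X.presheaf.stalk (g u)
    letI : Algebra A (U.presheaf.stalk u) := (g.stalkMap u).hom.toAlgebra
    haveI : IsLocalHom (algebraMap A (U.presheaf.stalk u)) := g.toLRSHom.prop u
    haveI : Algebra.FormallyUnramified A (U.presheaf.stalk u) := FormallyUnramified.stalkMap g u
    haveI : Algebra.EssFiniteType A (U.presheaf.stalk u) := LocallyOfFiniteType.stalkMap g u
    let σ : ResidueField (U.presheaf.stalk u) →ₐ[ResidueField A]
        SeparableClosure (ResidueField A) := IsSepClosed.lift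
    obtain ⟨j, hj⟩ := exists_idx_of_nbhd g u (K := SeparableClosure (ResidueField A))
      (σ.toRingHom.comp (U.residue u).hom)
      (RingHom.ext fun r => (σ.commutes (residue A r)).trans
        (IsScalarTower.algebraMap_apply A (ResidueField A) (SeparableClosure (ResidueField A)) r).symm)
      (fun z => (map_eq_zero_iff σ.toRingHom σ.toRingHom.injective).trans (IsLocalRing.residue_eq_zero_iff z))
    rw [hj]
    exact le_iSup (fun i : Idx A (SeparableClosure (ResidueField A)) =>
      ENat.card (minimalPrimes i.L)) j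

end

end Groth.Agent.HensBranch
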