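import Groth.Agent.HensBranch.Count

/-!
# Branches and minimal primes of henselizations
-/

set_option autoImplicit false
set_option linter.style.haveILetI false
set_option linter.unusedSectionVars false

universe u

open IsLocalRing TensorProduct

namespace Groth.Agent.HensBranch

open Henselization

noncomputable section

variable {R : Type u} [CommRing R]

section component

variable (p : Ideal R) [p.IsPrime]

instance isDomain_red : IsDomain (CAlg2.red (R ⧸ p)) := BranchLib.isPrime_red p

lemma normRed_isIntegrallyClosed : IsIntegrallyClosed (CAlg2.normRed (R ⧸ p)) :=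
  integralClosure.isIntegrallyClosedOfFiniteExtension (FractionRing (CAlg2.red (R ⧸ p)))

lemma normRed_algebraMap (r : R) :
    algebraMap R (CAlg2.normRed (R ⧸ p)) r =
      NormalTensor.toNormRed (R ⧸ p) (Ideal.Quotient.mk p r) := rfl

lemma ker_algebraMap_normRed : RingHom.ker (algebraMap R (CAlg2.normRed (R ⧸ p))) = p := by
  ext r
  rw [RingHom.mem_ker, normRed_algebraMap]
  have hinj : Function.Injective (algebraMap (CAlg2.red (R ⧸ p)) (CAlg2.normRed (R ⧸ p))) :=
    fun a b h => IsFractionRing.injective (CAlg2.red (R ⧸ p)) (FractionRing (CAlg2.red (R ⧸ p)))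
      (congrArg Subtype.val h)
  show algebraMap (CAlg2.red (R ⧸ p)) (CAlg2.normRed (R ⧸ p)) _ = 0 ↔ _
  rw [map_eq_zero_iff _ hinj, Ideal.Quotient.eq_zero_iff_mem, mem_nilradical,
    isNilpotent_iff_eq_zero, Ideal.Quotient.eq_zero_iff_mem]

lemma normRed_isIntegral : Algebra.IsIntegral R (CAlg2.normRed (R ⧸ p)) :=
  ⟨fun x => RingHom.IsIntegral.trans (Ideal.Quotient.mk p) (NormalTensor.toNormRed (R ⧸ p))
    (RingHom.isIntegral_of_surjective _ Ideal.Quotient.mk_surjective)
    (BranchLib.isIntegral_toNormRed (R ⧸ p)) x⟩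

lemma normRed_frac (x : CAlg2.normRed (R ⧸ p)) :
    ∃ a b : R, algebraMap R (CAlg2.normRed (R ⧸ p)) a ≠ 0 ∧
      algebraMap R (CAlg2.normRed (R ⧸ p)) a * x = algebraMap R (CAlg2.normRed (R ⧸ p)) b := by
  obtain ⟨⟨b, s⟩, h⟩ := IsLocalization.surj (nonZeroDivisors (CAlg2.red (R ⧸ p)))
    (x : FractionRing (CAlg2.red (R ⧸ p)))
  obtain ⟨b, rfl⟩ := Ideal.Quotient.mk_surjective b
  obtain ⟨b, rfl⟩ := Ideal.Quotient.mk_surjective b
  obtain ⟨s₁, hs₁⟩ := Ideal.Quotient.mk_surjective (s : CAlg2.red (R ⧸ p))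
  obtain ⟨s₀, rfl⟩ := Ideal.Quotient.mk_surjective s₁
  refine ⟨s₀, b, fun h0 => nonZeroDivisors.ne_zero s.2 ?_, Subtype.ext ?_⟩
  · rw [← hs₁]
    have h1 : s₀ ∈ p := (ker_algebraMap_normRed p).le (RingHom.mem_ker.mpr h0)
    rw [Ideal.Quotient.eq_zero_iff_mem.mpr h1, map_zero]
  · show algebraMap (CAlg2.red (R ⧸ p)) (FractionRing (CAlg2.red (R ⧸ p)))
      (Ideal.Quotient.mk _ (Ideal.Quotient.mk p s₀)) * x.1 = _
    rw [hs₁, mul_comm]
    exact h

end component

variable [IsLocalRing R] {K : Type u} [Field K] [Algebra R K] [Algebra (ResidueField R) K]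
  [IsScalarTower R (ResidueField R) K]

lemma comap_mem_minimalPrimes {q : Ideal (Hz R K)} (hq : q ∈ minimalPrimes (Hz R K)) :
    q.comap (algebraMap R (Hz R K)) ∈ minimalPrimes R :=
  BranchLib.comap_mem_minimalPrimes R (Hz R K) hq

lemma mem_minimalPrimes_of_comap {q : Ideal (Hz R K)} (hq : q.IsPrime)
    (h : q.comap (algebraMap R (Hz R K)) ∈ minimalPrimes R) : q ∈ minimalPrimes (Hz R K) := by
  refine ⟨⟨hq, bot_le⟩, fun q' hq' hle => ?_⟩
  haveI := hq'.1
  haveI := hq
  exact (eq_of_le_of_comap_eq hle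
    (le_antisymm (Ideal.comap_mono hle) (h.2 ⟨inferInstance, bot_le⟩ (Ideal.comap_mono hle)))).ge

/-- The minimal primes, sorted by the minimal prime below. -/
theorem minimalPrimes_card_eq (β : minimalPrimes R → Type u)
    (h : ∀ p : minimalPrimes R, Nonempty ({q : Ideal (Hz R K) // q.IsPrime ∧
      q.comap (algebraMap R (Hz R K)) = p.1} ≃ β p)) :
    ((minimalPrimes R).Finite → ENat.card (minimalPrimes (Hz R K)) =
        ∑ᶠ p : minimalPrimes R, ENat.card (β p)) ∧
      (¬ (minimalPrimes R).Finite → ENat.card (minimalPrimes (Hz R K)) = ⊤) := by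
  let F : minimalPrimes (Hz R K) → minimalPrimes R := fun q => ⟨_, comap_mem_minimalPrimes q.2⟩
  constructor
  · intro hfin
    haveI : Fintype (minimalPrimes R) := hfin.fintype
    have e : minimalPrimes (Hz R K) ≃ Σ p : minimalPrimes R, β p :=
      ((Equiv.sigmaFiberEquiv F).symm.trans (Equiv.sigmaCongrRight fun p =>
        ({ toFun := fun q => ⟨q.1.1, q.1.2.1.1, congrArg Subtype.val q.2⟩
           invFun := fun q => ⟨⟨q.1, mem_minimalPrimes_of_comap q.2.1 (q.2.2.symm ▸ p.2 : q.1.comap (algebraMap R (Hz R K)) ∈ minimalPrimes R)⟩, Subtype.ext q.2.2⟩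
           left_inv := fun q => rfl
           right_inv := fun q => rfl } : {q // F q = p} ≃ {q : Ideal (Hz R K) // q.IsPrime ∧
            q.comap (algebraMap R (Hz R K)) = p.1}).trans (h p).some))
    rw [ENat.card_congr e, BranchLib.enat_card_sigma, finsum_eq_sum_of_fintype]
  · intro hinf
    have hF : Function.Surjective F := fun p => by
      haveI := p.2.1.1
      obtain ⟨q, hq⟩ := PrimeSpectrum.comap_surjective_of_faithfullyFlat (A := R) (B := Hz R K)
        ⟨p.1, inferInstance⟩
      have hq' : q.asIdeal.comap (algebraMap R (Hz R K)) = p.1 := congrArg PrimeSpectrum.asIdeal hq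
      exact ⟨⟨q.asIdeal, mem_minimalPrimes_of_comap q.isPrime (hq' ▸ p.2)⟩, Subtype.ext hq'⟩
    haveI : Infinite (minimalPrimes R) := Set.infinite_coe_iff.mpr hinf
    haveI : Infinite (minimalPrimes (Hz R K)) := Infinite.of_surjective F hF
    exact ENat.card_eq_top_of_infinite

variable (R)

/-- Minimal primes of the henselization and branches. -/
theorem card_minimalPrimes_henselization :
    ENat.card (minimalPrimes (Hz R (ResidueField R))) = Brnch.numBranches R := by
  classical
  obtain ⟨h1, h2⟩ := minimalPrimes_card_eq (R := R) (K := ResidueField R)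
    (fun p => MaximalSpectrum (CAlg2.normRed (R ⧸ p.1))) fun p => by
      haveI := p.2.1.1
      haveI := normRed_isIntegrallyClosed p.1
      haveI := normRed_isIntegral p.1
      obtain ⟨e⟩ := exists_primesOver_equiv R (ResidueField R) (CAlg2.normRed (R ⧸ p.1)) (normRed_frac p.1)
      obtain ⟨e'⟩ := exists_primeSpectrum_residue_equiv (R := R) (A' := CAlg2.normRed (R ⧸ p.1))
      exact ⟨(Equiv.subtypeEquivRight fun q => by rw [ker_algebraMap_normRed]).trans (e.trans e')⟩
  by_cases hfin : (minimalPrimes R).Finite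
  · rw [h1 hfin, BranchLib.numBranches_eq_finsum R hfin]
    refine finsum_congr fun p => ?_
    haveI := p.2.1.1
    unfold Brnch.numBranches
    rw [if_pos (BranchLib.finite_minimalPrimes_quotient R p.1)]
  · rw [h2 hfin]
    unfold Brnch.numBranches
    rw [if_neg hfin]

variable (K)

/-- Minimal primes of the strict henselization and geometric branches. -/
theorem card_minimalPrimes_strictHenselization [Algebra.IsSeparable (ResidueField R) K] [IsSepClosed K] :
    ENat.card (minimalPrimes (Hz R K)) = Brnch.numGeomBranches R := by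
  classical
  obtain ⟨h1, h2⟩ := minimalPrimes_card_eq (R := R) (K := K)
    (fun p => haveI : p.1.IsPrime := p.2.1.1
      Σ M : MaximalSpectrum (CAlg2.normRed (R ⧸ p.1)), Brnch.Emb (R ⧸ p.1) M) fun p => by
      haveI := p.2.1.1
      haveI := normRed_isIntegrallyClosed p.1
      haveI := normRed_isIntegral p.1
      let B := R ⧸ p.1
      haveI : IsLocalHom (Ideal.Quotient.mk p.1) :=
        Ideal.Quotient.mk_surjective.isLocalHom (f := Ideal.Quotient.mk p.1)
      let C := AlgebraicClosure (ResidueField B)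
      letI : Algebra (ResidueField R) C :=
        ((algebraMap (ResidueField B) C).comp (ResidueField.map (Ideal.Quotient.mk p.1))).toAlgebra
      let j : K →ₐ[ResidueField R] C := IsAlgClosed.lift
      have hj : j.toRingHom.comp (algebraMap R K) =
          (Brnch.toClosure B).comp (Ideal.Quotient.mk p.1) := RingHom.ext fun r => by
        show j (algebraMap R K r) = _
        rw [IsScalarTower.algebraMap_apply R (ResidueField R) K, j.commutes]
        rfl
      obtain ⟨e⟩ := exists_primesOver_equiv R K (CAlg2.normRed B) (normRed_frac p.1)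
      obtain ⟨e'⟩ := exists_primeSpectrum_hom_equiv (R := R) (A' := CAlg2.normRed B) j.toRingHom
      refine ⟨(Equiv.subtypeEquivRight fun q => by rw [ker_algebraMap_normRed]).trans
        (e.trans (e'.trans ?_))⟩
      have hcomp : ∀ τ : CAlg2.normRed B →+* C,
          τ.comp (algebraMap R (CAlg2.normRed B)) = j.toRingHom.comp (algebraMap R K) ↔
            τ.comp (NormalTensor.toNormRed B) = Brnch.toClosure B := fun τ => by
        rw [hj]
        exact ⟨fun h => Ideal.Quotient.ringHom_ext h, fun h =>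
          (congrArg (fun g : B →+* C => g.comp (Ideal.Quotient.mk p.1)) h)⟩
      have hker : ∀ τ : CAlg2.normRed B →+* C, τ.comp (NormalTensor.toNormRed B) = Brnch.toClosure B →
          (RingHom.ker τ).IsMaximal := fun τ h => by
        haveI : (RingHom.ker τ).IsPrime := RingHom.ker_isPrime τ
        refine Ideal.isMaximal_of_isIntegral_of_isMaximal_comap' _ (BranchLib.isIntegral_toNormRed B) _ ?_
        rw [RingHom.comap_ker, h]
        show (RingHom.ker ((algebraMap (ResidueField B) C).comp (residue B))).IsMaximal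
        rw [RingHom.ker_comp_of_injective _ (algebraMap (ResidueField B) C).injective,
          show RingHom.ker (residue B) = maximalIdeal B from Ideal.mk_ker]
        exact maximalIdeal.isMaximal B
      let G : (Σ M : MaximalSpectrum (CAlg2.normRed B), Brnch.Emb B M) →
          {τ : CAlg2.normRed B →+* C //
            τ.comp (algebraMap R (CAlg2.normRed B)) = j.toRingHom.comp (algebraMap R K)} := fun x =>
        ⟨x.2.1.comp (Ideal.Quotient.mk x.1.asIdeal), (hcomp _).mpr x.2.2⟩
      refine (Equiv.ofBijective G ⟨fun x y hxy => ?_, fun τ => ?_⟩).symm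
      · obtain ⟨M, σ⟩ := x
        obtain ⟨M', σ'⟩ := y
        have hh : σ.1.comp (Ideal.Quotient.mk M.asIdeal) = σ'.1.comp (Ideal.Quotient.mk M'.asIdeal) :=
          congrArg Subtype.val hxy
        have hk : ∀ (M : MaximalSpectrum (CAlg2.normRed B)) (σ : Brnch.Emb B M),
            RingHom.ker (σ.1.comp (Ideal.Quotient.mk M.asIdeal)) = M.asIdeal := fun M σ => by
          haveI := M.isMaximal
          refine (M.isMaximal.eq_of_le (RingHom.ker_ne_top _) fun a ha => ?_).symm
          rw [RingHom.mem_ker, RingHom.comp_apply, Ideal.Quotient.eq_zero_iff_mem.mpr ha, map_zero]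
        obtain rfl : M = M' := MaximalSpectrum.ext (by rw [← hk M σ, hh, hk M' σ'])
        exact congrArg _ (Subtype.ext (Ideal.Quotient.ringHom_ext hh))
      · have hτ := (hcomp τ.1).mp τ.2
        exact ⟨⟨⟨RingHom.ker τ.1, hker τ.1 hτ⟩, Ideal.Quotient.lift _ τ.1 fun a ha => ha, hτ⟩,
          Subtype.ext rfl⟩
  by_cases hfin : (minimalPrimes R).Finite
  · rw [h1 hfin, BranchLib.numGeomBranches_eq_finsum R hfin]
    refine finsum_congr fun p => ?_
    haveI := p.2.1.1
    unfold Brnch.numGeomBranches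
    rw [if_pos (BranchLib.finite_minimalPrimes_quotient R p.1)]
  · rw [h2 hfin]
    unfold Brnch.numGeomBranches
    rw [if_neg hfin]

variable {R} {K}

theorem card_minimalPrimes_of_equiv {S : Type u} [CommRing S] [Algebra R S] (e : Hz R K ≃ₐ[R] S) :
    ENat.card (minimalPrimes S) = ENat.card (minimalPrimes (Hz R K)) := by
  refine ENat.card_congr ?_
  have key : ∀ {A B : Type u} [CommRing A] [CommRing B] (f : A ≃+* B) (q : Ideal B),
      q ∈ minimalPrimes B → q.comap f.toRingHom ∈ minimalPrimes A := fun {A B} _ _ f q hq => by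
    haveI := hq.1.1
    refine ⟨⟨Ideal.IsPrime.comap _, bot_le⟩, fun Q hQ hle => ?_⟩
    haveI := hQ.1
    have hQ' : Q.comap f.symm.toRingHom ≤ q := fun x hx => by
      have h := hle hx
      rw [Ideal.mem_comap] at h
      simpa using h
    intro x hx
    have h := hq.2 ⟨Ideal.IsPrime.comap _, bot_le⟩ hQ' hx
    rw [Ideal.mem_comap] at h
    simpa using h
  exact
    { toFun := fun q => ⟨_, key e.toRingEquiv q.1 q.2⟩
      invFun := fun q => ⟨_, key e.symm.toRingEquiv q.1 q.2⟩
      left_inv := fun q => Subtype.ext (Ideal.ext fun x => by simp)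
      right_inv := fun q => Subtype.ext (Ideal.ext fun x => by simp) }

/-- Being a domain in terms of the number of minimal primes. -/
theorem isDomain_iff_of_equiv {S : Type u} [CommRing S] [Algebra R S] (e : Hz R K ≃ₐ[R] S) :
    IsDomain S ↔ IsReduced R ∧ ENat.card (minimalPrimes S) = 1 := by
  rw [← Henselization.isReduced_of_equiv e, BranchLib.enat_card_eq_one]
  constructor
  · intro _
    refine ⟨inferInstance, ⟨fun P Q => Subtype.ext ?_⟩, ⟨⟨⊥, ⟨Ideal.isPrime_bot, le_rfl⟩, fun _ _ _ => bot_le⟩⟩⟩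
    rw [le_bot_iff.mp (P.2.2 ⟨Ideal.isPrime_bot, le_rfl⟩ bot_le),
      le_bot_iff.mp (Q.2.2 ⟨Ideal.isPrime_bot, le_rfl⟩ bot_le)]
  · rintro ⟨hred, hsub, ⟨P⟩⟩
    have hP : P.1 = ⊥ := by
      refine eq_bot_iff.mpr fun x hx => ?_
      rw [Ideal.mem_bot]
      refine IsNilpotent.eq_zero (mem_nilradical.mp ?_)
      rw [nilradical, ← Ideal.sInf_minimalPrimes (I := (0 : Ideal S)), Submodule.mem_sInf]
      intro Q hQ
      rw [show Q = P.1 from congrArg Subtype.val (Subsingleton.elim (⟨Q, hQ⟩ : minimalPrimes S) P)]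
      exact hx
    haveI : (⊥ : Ideal S).IsPrime := hP ▸ P.2.1.1
    exact IsDomain.of_bot_isPrime S

end

end Groth.Agent.HensBranch
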