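import Groth.Agent.Henselization.IndEtale
import Mathlib.RingTheory.Etale.Locus
import Mathlib.RingTheory.MvPolynomial.Localization
import Mathlib.RingTheory.Ideal.MinimalPrime.Localization

/-!
# Stages of a henselization as local rings of etale algebras over a chart
-/

set_option autoImplicit false
set_option linter.style.haveILetI false
set_option linter.unusedSectionVars false

universe u

open IsLocalRing TensorProduct

namespace Groth.Agent.HensBranch

open Henselization

noncomputable section

theorem card_minimalPrimes_congr {A B : Type u} [CommRing A] [CommRing B] (e : A ≃+* B) :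
    ENat.card (minimalPrimes A) = ENat.card (minimalPrimes B) := by
  have key : ∀ {A B : Type u} [CommRing A] [CommRing B] (f : A ≃+* B) (q : Ideal B),
      q ∈ minimalPrimes B → q.comap f.toRingHom ∈ minimalPrimes A := fun {A B} _ _ f q hq => by
    haveI := hq.1.1
    refine ⟨⟨Ideal.IsPrime.comap _, bot_le⟩, fun Q hQ hle => ?_⟩
    haveI := hQ.1
    have hQ' : Q.comap f.symm.toRingHom ≤ q := fun x hx => by
      have h := hle hx
      rw [Ideal.mem_comap] at h
      simpa using h
    intro x hx
    have h := hq.2 ⟨Ideal.IsPrime.comap _, bot_le⟩ hQ' hx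
    rw [Ideal.mem_comap] at h
    simpa using h
  exact ENat.card_congr
    { toFun := fun q => ⟨_, key e.symm q.1 q.2⟩
      invFun := fun q => ⟨_, key e q.1 q.2⟩
      left_inv := fun q => Subtype.ext (Ideal.ext fun x => by
        show e.symm (e x) ∈ q.1 ↔ _
        rw [RingEquiv.symm_apply_apply])
      right_inv := fun q => Subtype.ext (Ideal.ext fun x => by
        show e (e.symm x) ∈ q.1 ↔ _
        rw [RingEquiv.apply_symm_apply]) }

variable {C R : Type u} [CommRing C] [CommRing R] [Algebra C R] (p : Ideal C) [p.IsPrime]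
  [IsLocalization.AtPrime R p] [IsLocalRing R] {K : Type u} [Field K] [Algebra R K]

include p

/-- A local ring of an etale algebra over a chart, with a point, is a stage. -/
theorem exists_idx_of_localization' {B L : Type u} [CommRing B] [Algebra C B] [Algebra.Etale C B]
    [CommRing L] [IsLocalRing L] [Algebra B L] [Algebra C L] [IsScalarTower C B L] (P : Ideal B)
    [P.IsPrime] [IsLocalization.AtPrime L P] [Algebra R L] [IsScalarTower C R L]
    (σ₀ : L →ₐ[R] K) (hσ : ∀ z, σ₀ z = 0 ↔ z ∈ maximalIdeal L) :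
    ∃ j : Idx R K, Nonempty (L ≃ₐ[R] j.L) := by
  let T := R ⊗[C] B
  let φ : T →ₐ[R] L :=
    Algebra.TensorProduct.lift (Algebra.ofId R L) (IsScalarTower.toAlgHom C B L) fun _ _ => Commute.all _ _
  obtain ⟨j, e, he⟩ := exists_idx_equiv T (σ₀.comp φ)
  letI : Algebra T L := φ.toRingHom.toAlgebra
  let q : Ideal T := RingHom.ker (σ₀.comp φ).toRingHom
  haveI : q.IsPrime := RingHom.ker_isPrime _
  have hφ1 : ∀ b : B, φ ((1 : R) ⊗ₜ b) = algebraMap B L b := fun b => by
    rw [Algebra.TensorProduct.lift_tmul, map_one, one_mul]; rfl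
  have hq : ∀ t : T, t ∈ q ↔ φ t ∈ maximalIdeal L := fun t => hσ (φ t)
  have hnum : ∀ a : T, ∃ r : C, r ∉ p ∧ ∃ b : B, a * (algebraMap C R r ⊗ₜ[C] (1 : B)) = (1 : R) ⊗ₜ b := by
    intro a
    induction a using TensorProduct.induction_on with
    | zero => exact ⟨1, p.ne_top_iff_one.mp (Ideal.IsPrime.ne_top ‹_›), 0, by simp⟩
    | tmul x b =>
      obtain ⟨⟨c, d⟩, hd⟩ := IsLocalization.surj p.primeCompl x
      refine ⟨d, d.2, c • b, ?_⟩
      rw [Algebra.TensorProduct.tmul_mul_tmul, mul_one, hd, Algebra.algebraMap_eq_smul_one,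
        TensorProduct.smul_tmul]
    | add v w hv hw =>
      obtain ⟨r, hr, b, hb⟩ := hv
      obtain ⟨r', hr', b', hb'⟩ := hw
      refine ⟨r * r', fun h => (Ideal.IsPrime.mem_or_mem ‹_› h).elim hr hr', r' • b + r • b', ?_⟩
      have e1 : ∀ (c : C) (b : B), ((1 : R) ⊗ₜ[C] (c • b)) =
          ((1 : R) ⊗ₜ[C] b) * (algebraMap C R c ⊗ₜ[C] (1 : B)) := fun c b => by
        rw [Algebra.TensorProduct.tmul_mul_tmul, one_mul, mul_one, Algebra.algebraMap_eq_smul_one,
          TensorProduct.smul_tmul]
      rw [TensorProduct.tmul_add, e1, e1, ← hb, ← hb', map_mul,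
        show (algebraMap C R r * algebraMap C R r') ⊗ₜ[C] (1 : B) =
          (algebraMap C R r ⊗ₜ[C] (1 : B)) * (algebraMap C R r' ⊗ₜ[C] (1 : B)) by
          rw [Algebra.TensorProduct.tmul_mul_tmul, mul_one]]
      ring
  have hru : ∀ r : C, r ∉ p → IsUnit (algebraMap C R r ⊗ₜ[C] (1 : B) : T) := fun r hr =>
    (IsLocalization.map_units R (⟨r, hr⟩ : p.primeCompl)).map
      (Algebra.TensorProduct.includeLeftRingHom : R →+* T)
  haveI : IsLocalization q.primeCompl L := by
    have hu : ∀ y : q.primeCompl, IsUnit (φ y) := fun y => by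
      by_contra hn
      exact y.2 ((hq _).mpr ((IsLocalRing.mem_maximalIdeal _).mpr hn))
    refine ⟨hu, fun z => ?_, fun {x y} hxy => ?_⟩
    · obtain ⟨⟨b, s⟩, hz⟩ := IsLocalization.surj P.primeCompl z
      refine ⟨((1 : R) ⊗ₜ b, ⟨(1 : R) ⊗ₜ (s : B), fun h => ?_⟩), ?_⟩
      · have h' := (hq _).mp h
        rw [hφ1] at h'
        exact s.2 ((IsLocalization.AtPrime.to_map_mem_maximal_iff L P _).mp h')
      · exact (congrArg (z * ·) (hφ1 (s : B))).trans (hz.trans (hφ1 b).symm)
    · obtain ⟨r, hr, b, hb⟩ := hnum (x - y)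
      have h0 : algebraMap B L b = 0 := by
        rw [← hφ1, ← hb, map_mul, map_sub, show φ x = φ y from hxy, sub_self, zero_mul]
      obtain ⟨⟨s, hs⟩, hsb⟩ := (IsLocalization.map_eq_zero_iff P.primeCompl L b).mp h0
      refine ⟨⟨(1 : R) ⊗ₜ s, fun h => ?_⟩, ?_⟩
      · have h' := (hq _).mp h
        rw [hφ1] at h'
        exact hs ((IsLocalization.AtPrime.to_map_mem_maximal_iff L P _).mp h')
      · refine sub_eq_zero.mp ((hru r hr).mul_left_eq_zero.mp ?_)
        rw [← mul_sub, mul_assoc, hb, Algebra.TensorProduct.tmul_mul_tmul, one_mul,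
          show s * b = 0 from hsb, TensorProduct.tmul_zero]
  have hmap : Submonoid.map e.toRingEquiv.toMonoidHom q.primeCompl = j.q.primeCompl := by
    ext z
    constructor
    · rintro ⟨t, ht, rfl⟩ hz
      refine ht ?_
      show (σ₀.comp φ) t = 0
      rw [← he]
      exact hz
    · intro hz
      refine ⟨e.symm z, fun h => hz ?_, e.apply_symm_apply z⟩
      have h' : (σ₀.comp φ) (e.symm z) = 0 := h
      rw [← he] at h'
      show j.pt z = 0
      simpa using h'
  refine ⟨j, ⟨AlgEquiv.ofRingEquiv (f := IsLocalization.ringEquivOfRingEquiv (M := q.primeCompl)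
    (T := j.q.primeCompl) (S := L) (Q := j.L) e.toRingEquiv hmap) fun r => ?_⟩⟩
  rw [show algebraMap R L r = algebraMap T L (algebraMap R T r) from (φ.commutes r).symm,
    IsLocalization.ringEquivOfRingEquiv_eq]
  exact (congrArg (algebraMap j.S j.L) (e.commutes r)).trans
    (IsScalarTower.algebraMap_apply R j.S j.L r).symm

/-- A local ring of an etale algebra over a chart, with a point, is a stage (as rings). -/
theorem exists_idx_of_localization {B L : Type u} [CommRing B] [Algebra C B] [Algebra.Etale C B]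
    [CommRing L] [IsLocalRing L] [Algebra B L] [Algebra C L] [IsScalarTower C B L] (P : Ideal B)
    [P.IsPrime] [IsLocalization.AtPrime L P] [Algebra R L] [IsScalarTower C R L]
    (σ₀ : L →ₐ[R] K) (hσ : ∀ z, σ₀ z = 0 ↔ z ∈ maximalIdeal L) :
    ∃ j : Idx R K, Nonempty (L ≃+* j.L) := by
  obtain ⟨j, ⟨e⟩⟩ := exists_idx_of_localization' p P σ₀ hσ
  exact ⟨j, ⟨e.toRingEquiv⟩⟩

/-- A stage is a local ring of an etale algebra over a chart. -/
theorem exists_etale_model' (i : Idx R K) :
    ∃ (B : Type u) (_ : CommRing B) (_ : Algebra C B) (_ : Algebra.Etale C B) (q : Ideal B)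
      (_ : q.IsPrime) (χ : B →+* i.L), χ.comp (algebraMap C B) = (algebraMap R i.L).comp (algebraMap C R) ∧
        q = (maximalIdeal i.L).comap χ ∧ ∃ e : Localization.AtPrime q ≃+* i.L,
          ∀ b, e (algebraMap B (Localization.AtPrime q) b) = χ b := by
  classical
  let M := p.primeCompl
  letI : Algebra (MvPolynomial (Fin i.n) C) (MvPolynomial (Fin i.n) R) := MvPolynomial.algebraMvPolynomial
  let MM : Submonoid (MvPolynomial (Fin i.n) C) := M.map (MvPolynomial.C (σ := Fin i.n))
  haveI : IsLocalization MM (MvPolynomial (Fin i.n) R) := MvPolynomial.isLocalization M R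
  choose Ps hPs using fun k => IsLocalization.surj MM (i.rel k)
  let I : Ideal (MvPolynomial (Fin i.n) C) := Ideal.span (Set.range fun k => (Ps k).1)
  let J : Ideal (MvPolynomial (Fin i.n) R) := Ideal.span (Set.range i.rel)
  have hIJ : I.map (algebraMap _ (MvPolynomial (Fin i.n) R)) = J := by
    refine le_antisymm ?_ ?_
    · rw [Ideal.map_le_iff_le_comap, Ideal.span_le]
      rintro _ ⟨k, rfl⟩
      show algebraMap _ _ (Ps k).1 ∈ J
      rw [← hPs k]
      exact J.mul_mem_right _ (Ideal.subset_span ⟨k, rfl⟩)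
    · rw [Ideal.span_le]
      rintro _ ⟨k, rfl⟩
      refine (Ideal.mul_unit_mem_iff_mem _ (IsLocalization.map_units _ (Ps k).2)).mp ?_
      rw [hPs k]
      exact Ideal.mem_map_of_mem _ (Ideal.subset_span ⟨k, rfl⟩)
  let π : MvPolynomial (Fin i.n) R →+* i.S := Ideal.Quotient.mk J
  have hπs : Function.Surjective π := Ideal.Quotient.mk_surjective
  let B := MvPolynomial (Fin i.n) C ⧸ I
  let χ : B →+* i.S := Ideal.Quotient.lift I (π.comp (algebraMap _ _)) fun a ha =>
    Ideal.Quotient.eq_zero_iff_mem.mpr (hIJ ▸ Ideal.mem_map_of_mem _ ha)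
  have hχC : χ.comp (algebraMap C B) = (algebraMap R i.S).comp (algebraMap C R) := by
    refine RingHom.ext fun c => ?_
    show π (algebraMap _ _ (MvPolynomial.C c)) = π (MvPolynomial.C (algebraMap C R c))
    rw [MvPolynomial.algebraMap_def, MvPolynomial.map_C]
  let q : Ideal B := i.q.comap χ
  haveI : q.IsPrime := Ideal.IsPrime.comap _
  have hMunit : ∀ m : MM, IsUnit (π (algebraMap _ _ (m : MvPolynomial (Fin i.n) C))) := fun m =>
    (IsLocalization.map_units _ m).map π
  letI : Algebra B i.L := ((algebraMap i.S i.L).comp χ).toAlgebra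
  haveI : IsLocalization q.primeCompl i.L := by
    refine ⟨fun y => IsLocalization.map_units i.L (⟨χ y, y.2⟩ : i.q.primeCompl), fun z => ?_,
      fun {x y} hxy => ?_⟩
    · obtain ⟨⟨a, s⟩, hz⟩ := IsLocalization.surj i.q.primeCompl z
      obtain ⟨a', ha'⟩ := hπs a
      obtain ⟨s', hs'⟩ := hπs (s : i.S)
      obtain ⟨⟨a₀, ma⟩, ha⟩ := IsLocalization.surj MM a'
      obtain ⟨⟨s₀, ms⟩, hs⟩ := IsLocalization.surj MM s'
      have ea : χ (Ideal.Quotient.mk I (a₀ * ms)) =
          a * (π (algebraMap _ _ (ma : MvPolynomial (Fin i.n) C)) *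
            π (algebraMap _ _ (ms : MvPolynomial (Fin i.n) C))) := by
        show π (algebraMap _ _ (a₀ * ms)) = _
        rw [map_mul, ← ha, map_mul, map_mul, ha', mul_assoc]
      have es : χ (Ideal.Quotient.mk I (s₀ * ma)) =
          (s : i.S) * (π (algebraMap _ _ (ma : MvPolynomial (Fin i.n) C)) *
            π (algebraMap _ _ (ms : MvPolynomial (Fin i.n) C))) := by
        show π (algebraMap _ _ (s₀ * ma)) = _
        rw [map_mul, ← hs, map_mul, map_mul, hs']
        ring
      refine ⟨(Ideal.Quotient.mk I (a₀ * ms), ⟨Ideal.Quotient.mk I (s₀ * ma), fun h => ?_⟩), ?_⟩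
      · have h' : χ (Ideal.Quotient.mk I (s₀ * ma)) ∈ i.q := h
        rw [es] at h'
        exact s.2 ((Ideal.mul_unit_mem_iff_mem _ ((hMunit ma).mul (hMunit ms))).mp h')
      · show z * algebraMap i.S i.L (χ _) = algebraMap i.S i.L (χ _)
        rw [ea, es]
        simp only [map_mul]
        linear_combination (algebraMap i.S i.L (π (algebraMap _ _ (ma : MvPolynomial (Fin i.n) C))) * algebraMap i.S i.L (π (algebraMap _ _ (ms : MvPolynomial (Fin i.n) C)))) * hz
    · obtain ⟨x, rfl⟩ := Ideal.Quotient.mk_surjective x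
      obtain ⟨y, rfl⟩ := Ideal.Quotient.mk_surjective y
      have hxy' : algebraMap i.S i.L (π (algebraMap _ _ x)) = algebraMap i.S i.L (π (algebraMap _ _ y)) :=
        hxy
      obtain ⟨t, ht⟩ := IsLocalization.exists_of_eq (M := i.q.primeCompl) hxy'
      obtain ⟨t', ht'⟩ := hπs (t : i.S)
      obtain ⟨⟨t₀, mt⟩, hmt⟩ := IsLocalization.surj MM t'
      have h0 : π (algebraMap _ _ (t₀ * (x - y))) = 0 := by
        rw [map_mul, ← hmt, map_mul, map_mul, ht', map_sub, map_sub, mul_sub, mul_comm (t : i.S),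
          mul_assoc, mul_assoc, ht, sub_self]
      have h1 : algebraMap _ (MvPolynomial (Fin i.n) R) (t₀ * (x - y)) ∈
          I.map (algebraMap _ (MvPolynomial (Fin i.n) R)) := hIJ ▸ Ideal.Quotient.eq_zero_iff_mem.mp h0
      obtain ⟨⟨⟨a, ha⟩, m⟩, hm⟩ := (IsLocalization.mem_map_algebraMap_iff MM _).mp h1
      rw [← map_mul] at hm
      obtain ⟨m', hm'⟩ := IsLocalization.exists_of_eq (M := MM) hm
      refine ⟨⟨Ideal.Quotient.mk I ((m' : MvPolynomial (Fin i.n) C) * m * t₀), fun h => ?_⟩, ?_⟩
      · have h' : χ (Ideal.Quotient.mk I ((m' : MvPolynomial (Fin i.n) C) * m * t₀)) ∈ i.q := h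
        have e : χ (Ideal.Quotient.mk I ((m' : MvPolynomial (Fin i.n) C) * m * t₀)) =
            (t : i.S) * (π (algebraMap _ _ (m' : MvPolynomial (Fin i.n) C)) *
              π (algebraMap _ _ (m : MvPolynomial (Fin i.n) C)) *
              π (algebraMap _ _ (mt : MvPolynomial (Fin i.n) C))) := by
          show π (algebraMap _ _ _) = _
          rw [map_mul, map_mul, map_mul, map_mul, ← hmt, map_mul, ht']
          ring
        rw [e] at h'
        exact t.2 ((Ideal.mul_unit_mem_iff_mem _ (((hMunit m').mul (hMunit m)).mul (hMunit mt))).mp h')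
      · show Ideal.Quotient.mk I _ * Ideal.Quotient.mk I x = Ideal.Quotient.mk I _ * Ideal.Quotient.mk I y
        rw [← map_mul, ← map_mul, Ideal.Quotient.eq,
          show (m' : MvPolynomial (Fin i.n) C) * m * t₀ * x - (m' : MvPolynomial (Fin i.n) C) * m * t₀ * y =
            m' * (t₀ * (x - y) * m) by ring, hm']
        exact I.mul_mem_left _ ha
  let e : Localization.AtPrime q ≃ₐ[B] i.L := IsLocalization.algEquiv q.primeCompl _ _
  letI : Algebra C i.L := ((algebraMap R i.L).comp (algebraMap C R)).toAlgebra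
  haveI : IsScalarTower C R i.L := .of_algebraMap_eq fun _ => rfl
  haveI : IsScalarTower C B i.L := IsScalarTower.of_algebraMap_eq (R := C) (S := B) (A := i.L) fun c => by
    show algebraMap R i.L (algebraMap C R c) = algebraMap i.S i.L (χ (algebraMap C B c))
    rw [← RingHom.comp_apply χ, hχC]
    exact IsScalarTower.algebraMap_apply R i.S i.L _
  haveI : Algebra.FormallyEtale C R := Algebra.FormallyEtale.of_isLocalization (R := C) p.primeCompl
  haveI : Algebra.FormallyEtale C i.L := Algebra.FormallyEtale.comp C R i.L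
  haveI : Algebra.IsEtaleAt C q := Algebra.FormallyEtale.of_equiv (e.restrictScalars C).symm
  haveI : Algebra.FinitePresentation C B :=
    Algebra.FinitePresentation.quotient ⟨Finset.univ.image fun k => (Ps k).1, by simp [I]⟩
  obtain ⟨f, hf, hetale⟩ := Algebra.exists_etale_of_isEtaleAt (R := C) q
  let B' := Localization.Away f
  have hfu : IsUnit (algebraMap B i.L f) := IsLocalization.map_units i.L (⟨f, hf⟩ : q.primeCompl)
  let χ' : B' →+* i.L := IsLocalization.Away.lift f hfu
  have hχ' : χ'.comp (algebraMap B B') = algebraMap B i.L := IsLocalization.Away.lift_comp f hfu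
  let q' : Ideal B' := (maximalIdeal i.L).comap χ'
  haveI : q'.IsPrime := Ideal.IsPrime.comap _
  have hq' : q'.comap (algebraMap B B') = q := by
    rw [Ideal.comap_comap, hχ']
    ext b
    exact IsLocalization.AtPrime.to_map_mem_maximal_iff i.L q b
  haveI : IsLocalization.AtPrime (Localization.AtPrime q') q := by
    have h := IsLocalization.isLocalization_isLocalization_atPrime_isLocalization (M := Submonoid.powers f)
      (Localization.AtPrime q') q'
    simpa [hq'] using h
  refine ⟨B', inferInstance, inferInstance, hetale, q', inferInstance, χ', ?_, rfl,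
    (IsLocalization.algEquiv q.primeCompl (Localization.AtPrime q') i.L).toRingEquiv,
    RingHom.congr_fun (f := (IsLocalization.algEquiv q.primeCompl (Localization.AtPrime q')
      i.L).toRingEquiv.toRingHom.comp (algebraMap B' (Localization.AtPrime q'))) ?_⟩
  · rw [IsScalarTower.algebraMap_eq C B B', ← RingHom.comp_assoc, hχ', ← IsScalarTower.algebraMap_eq]
    exact IsScalarTower.algebraMap_eq C R i.L
  · refine IsLocalization.ringHom_ext (Submonoid.powers f) ?_
    rw [RingHom.comp_assoc, ← IsScalarTower.algebraMap_eq, hχ']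
    exact RingHom.ext (IsLocalization.algEquiv q.primeCompl (Localization.AtPrime q') i.L).commutes

/-- A stage is a local ring of an etale algebra over a chart (as rings). -/
theorem exists_etale_model (i : Idx R K) :
    ∃ (B : Type u) (_ : CommRing B) (_ : Algebra C B) (_ : Algebra.Etale C B) (q : Ideal B)
      (_ : q.IsPrime) (χ : B →+* i.L), χ.comp (algebraMap C B) = (algebraMap R i.L).comp (algebraMap C R) ∧
        q = (maximalIdeal i.L).comap χ ∧ Nonempty (Localization.AtPrime q ≃+* i.L) := by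
  obtain ⟨B, iB, iA, hB, q, hq, χ, h1, h2, e, -⟩ := exists_etale_model' p i
  exact ⟨B, iB, iA, hB, q, hq, χ, h1, h2, ⟨e⟩⟩

end

end Groth.Agent.HensBranch
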