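import Groth.Agent.HensBranch.Core
import Groth.Agent.Henselization.Fibre
import Mathlib.RingTheory.Artinian.Module
import Mathlib.RingTheory.Unramified.Field
import Mathlib.RingTheory.LocalRing.ResidueField.Fiber
import Mathlib.RingTheory.EssentialFiniteness

/-!
# Fibres of a henselization are finite products of separable field extensions
-/

set_option autoImplicit false
set_option linter.style.haveILetI false
set_option linter.unusedSectionVars false

universe u

open IsLocalRing TensorProduct

namespace Groth.Agent.HensBranch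

open Henselization

noncomputable section

variable {R : Type u} [CommRing R] [IsLocalRing R] {K : Type u} [Field K] [Algebra R K]
  [Algebra (ResidueField R) K] [IsScalarTower R (ResidueField R) K]

/-- An element of the henselization is separable in any field over a prime. -/
theorem isSeparable_of_hom {k L : Type u} [Field k] [Field L] [Algebra R k] [Algebra k L] [Algebra R L]
    [IsScalarTower R k L] (g : Hz R K →ₐ[R] L) (z : Hz R K) : IsSeparable k (g z) := by
  obtain ⟨i, l, rfl⟩ := exists_ι z
  obtain ⟨⟨a, s⟩, hl⟩ := IsLocalization.surj i.q.primeCompl l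
  let h : i.S →ₐ[R] L := g.comp ((ι i).comp (IsScalarTower.toAlgHom R i.S i.L))
  let φ : k ⊗[R] i.S →ₐ[k] L :=
    Algebra.TensorProduct.lift (Algebra.ofId k L) h fun _ _ => Commute.all _ _
  haveI : Module.Finite k (k ⊗[R] i.S) := Algebra.FormallyUnramified.finite_of_free k _
  haveI : Module.Finite k φ.range := Module.Finite.of_surjective φ.rangeRestrict.toLinearMap
    φ.rangeRestrict_surjective
  haveI : Algebra.IsIntegral k φ.range := Algebra.IsIntegral.of_finite k φ.range
  letI : Field φ.range := (isField_of_isIntegral_of_isField' (R := k) (S := φ.range) (Field.toIsField k)).toField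
  haveI : Algebra.FormallyUnramified k φ.range :=
    Algebra.FormallyUnramified.of_surjective φ.rangeRestrict φ.rangeRestrict_surjective
  haveI : Algebra.IsSeparable k φ.range := Algebra.FormallyUnramified.isSeparable k φ.range
  have key : ∀ x : i.S, IsSeparable k (h x) := fun x => by
    have hx : h x = φ.range.val (φ.rangeRestrict ((1 : k) ⊗ₜ x)) := by
      show h x = φ ((1 : k) ⊗ₜ x)
      rw [Algebra.TensorProduct.lift_tmul, map_one, one_mul]
    rw [hx]
    unfold IsSeparable
    rw [minpoly.algHom_eq φ.range.val Subtype.val_injective]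
    exact Algebra.IsSeparable.isSeparable k _
  have hmem : ∀ x : i.S, h x ∈ separableClosure k L := fun x => mem_separableClosure_iff.mpr (key x)
  have hs : h s ≠ 0 := (((IsLocalization.map_units i.L s).map (ι i)).map g).ne_zero
  have he : g (ι i l) = h a / h s := by
    rw [eq_div_iff hs]
    show g (ι i l) * g (ι i (algebraMap i.S i.L s)) = g (ι i (algebraMap i.S i.L a))
    rw [← map_mul, ← map_mul, hl]
  rw [← mem_separableClosure_iff, he]
  exact div_mem (hmem a) (hmem s)

/-- Fibres of a henselization. -/
theorem exists_fibre_equiv_pi [IsNoetherianRing R] {S : Type u} [CommRing S] [Algebra R S]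
    (e : Hz R K ≃ₐ[R] S) (p : Ideal R) [p.IsPrime] :
    ∃ (n : ℕ) (F : Fin n → Type u) (_ : ∀ i, Field (F i)) (_ : ∀ i, Algebra p.ResidueField (F i)),
      (∀ i, Algebra.IsSeparable p.ResidueField (F i)) ∧
      Nonempty ((p.ResidueField ⊗[R] S) ≃ₐ[p.ResidueField] (Π i, F i)) := by
  classical
  let k := p.ResidueField
  have hS : FineFibres R S := fineFibres_of_equiv e
  haveI := hS.flat
  haveI : IsNoetherianRing (Hz R K) := Henselization.isNoetherianRing
  haveI : IsNoetherianRing S := isNoetherianRing_of_ringEquiv _ e.toRingEquiv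
  let T := k ⊗[R] S
  let inc : S →ₐ[R] T := Algebra.TensorProduct.includeRight
  haveI : IsNoetherianRing T := by
    haveI : Algebra.EssFiniteType R k := inferInstance
    haveI : IsNoetherianRing (S ⊗[R] k) := Algebra.EssFiniteType.isNoetherianRing S _
    exact isNoetherianRing_of_ringEquiv _ (Algebra.TensorProduct.comm R S k).toRingEquiv
  have hgen : ∀ x : T, ∃ (r : R) (s : S), r ∉ p ∧ algebraMap R T r * x = inc s := fun x => by
    obtain ⟨r, hr, s, hs⟩ := Ideal.Fiber.exists_smul_eq_one_tmul p x
    exact ⟨r, s, hr, by rw [← Algebra.smul_def]; exact hs⟩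
  have hu : ∀ r : R, r ∉ p → IsUnit (algebraMap R T r) := fun r hr => by
    rw [IsScalarTower.algebraMap_apply R k T]
    refine (IsUnit.mk0 _ fun h0 => hr ?_).map _
    rwa [← RingHom.mem_ker, Ideal.ker_algebraMap_residueField] at h0
  have hzero : ∀ s : S, inc s = 0 → s ∈ p.map (algebraMap R S) := fun s hs => by
    have h := mem_map_of_one_tmul_eq_zero (A' := k) s hs
    rwa [Ideal.ker_algebraMap_residueField] at h
  have hinc : ∀ s ∈ p.map (algebraMap R S), inc s = 0 := fun s hs => by
    have hle : p.map (algebraMap R S) ≤ RingHom.ker inc.toRingHom := by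
      rw [Ideal.map_le_iff_le_comap]
      intro r hr
      show inc (algebraMap R S r) = 0
      rw [AlgHom.commutes, IsScalarTower.algebraMap_apply R k T,
        show algebraMap R k r = 0 from by rwa [← RingHom.mem_ker, Ideal.ker_algebraMap_residueField],
        map_zero]
    exact hle hs
  haveI : IsReduced T := by
    refine ⟨fun x ⟨m, hm⟩ => ?_⟩
    obtain ⟨r, s, hr, hs⟩ := hgen x
    have h1 : inc (s ^ m) = 0 := by rw [map_pow, ← hs, mul_pow, hm, mul_zero]
    have h2 : s ∈ p.map (algebraMap R S) := hS.isRadical p inferInstance ⟨m, hzero _ h1⟩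
    rw [hinc s h2] at hs
    exact (hu r hr).mul_right_eq_zero.mp hs
  have hcomap : ∀ P : Ideal T, P.IsPrime → (P.comap inc.toRingHom).comap (algebraMap R S) = p := by
    intro P hP
    have h1 : inc.toRingHom.comp (algebraMap R S) = (algebraMap k T).comp (algebraMap R k) :=
      inc.comp_algebraMap.trans (IsScalarTower.algebraMap_eq R k T)
    rw [Ideal.comap_comap, h1, ← Ideal.comap_comap,
      (Ideal.eq_bot_or_top (P.comap (algebraMap k T))).resolve_right (Ideal.comap_ne_top _ hP.ne_top),
      ← RingHom.ker_eq_comap_bot, Ideal.ker_algebraMap_residueField]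
  have hinj : ∀ P P' : Ideal T, P.IsPrime → P.comap inc.toRingHom = P'.comap inc.toRingHom → P' ≤ P := by
    intro P P' hP h x hx
    obtain ⟨r, s, hr, hs⟩ := hgen x
    have h1 : s ∈ P'.comap inc.toRingHom := by
      show inc s ∈ P'
      rw [← hs]; exact P'.mul_mem_left _ hx
    rw [← h] at h1
    have h2 : algebraMap R T r * x ∈ P := hs ▸ h1
    exact (Ideal.unit_mul_mem_iff_mem P (hu r hr)).mp h2
  haveI : Ring.KrullDimLE 0 T := Ring.KrullDimLE.mk₀ fun P hP => by
    refine ⟨⟨hP.ne_top, fun J hJ => ?_⟩⟩
    by_contra hne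
    obtain ⟨M, hM, hJM⟩ := Ideal.exists_le_maximal J hne
    haveI := hP
    haveI := hM.isPrime
    have hPM : P ≤ M := hJ.le.trans hJM
    have := hS.eq_of_le (P.comap inc.toRingHom) (M.comap inc.toRingHom) inferInstance inferInstance
      (Ideal.comap_mono hPM) (by rw [hcomap P hP, hcomap M hM.isPrime])
    exact absurd (hJM.trans (hinj P M hP this)) hJ.not_ge
  haveI : IsArtinianRing T := isArtinianRing_iff_isNoetherianRing_krullDimLE_zero.mpr ⟨inferInstance, inferInstance⟩
  haveI : Fintype (MaximalSpectrum T) := Fintype.ofFinite _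
  let en := (Fintype.equivFin (MaximalSpectrum T)).symm
  letI fld : ∀ I : MaximalSpectrum T, Field (T ⧸ I.asIdeal) := fun I => by
    haveI := I.isMaximal
    exact Ideal.Quotient.field I.asIdeal
  refine ⟨Fintype.card (MaximalSpectrum T), fun i => T ⧸ (en i).asIdeal, fun i => fld (en i),
    fun i => inferInstance, fun i => ⟨fun x => ?_⟩,
    ⟨((IsArtinianRing.equivPi T).restrictScalars k).trans
      (AlgEquiv.piCongrLeft' k (fun I : MaximalSpectrum T => T ⧸ I.asIdeal) en.symm)⟩⟩
  obtain ⟨t, rfl⟩ := Ideal.Quotient.mk_surjective x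
  obtain ⟨r, s, hr, hs⟩ := hgen t
  let g : Hz R K →ₐ[R] T ⧸ (en i).asIdeal :=
    ((Ideal.Quotient.mkₐ R (en i).asIdeal).comp inc).comp e.toAlgHom
  have h1 : IsSeparable k (g (e.symm s)) := isSeparable_of_hom g _
  have hg : g (e.symm s) = Ideal.Quotient.mk _ (inc s) := by
    show Ideal.Quotient.mk _ (inc (e (e.symm s))) = _
    rw [e.apply_symm_apply]
  rw [hg, ← hs, map_mul, Ideal.Quotient.mk_algebraMap, IsScalarTower.algebraMap_apply R k] at h1
  have hr0 : algebraMap R k r ≠ 0 := fun h0 => hr (by
    rwa [← RingHom.mem_ker, Ideal.ker_algebraMap_residueField] at h0)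
  have e3 : Ideal.Quotient.mk (en i).asIdeal t = algebraMap k (T ⧸ (en i).asIdeal) (algebraMap R k r)⁻¹ *
      (algebraMap k (T ⧸ (en i).asIdeal) (algebraMap R k r) * Ideal.Quotient.mk (en i).asIdeal t) := by
    rw [← mul_assoc, ← map_mul, inv_mul_cancel₀ hr0, map_one, one_mul]
  rw [e3, ← mem_separableClosure_iff]
  exact mul_mem (mem_separableClosure_iff.mpr (isSeparable_algebraMap _)) (mem_separableClosure_iff.mpr h1)

end

end Groth.Agent.HensBranch
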