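import Groth.Agent.HensBranch.Branches

/-!
# Minimal primes of the normalisation tensored with a henselization
-/

set_option autoImplicit false
set_option linter.style.haveILetI false
set_option linter.unusedSectionVars false

universe u

open IsLocalRing TensorProduct

namespace Groth.Agent.HensBranch

open Henselization

noncomputable section

/-- `A'` is a finite product of normal domains, one over each minimal prime. -/
structure IsNormSplit (R A' : Type u) [CommRing R] [CommRing A'] [Algebra R A'] {ι : Type u}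
    (B : ι → Type u) [∀ i, CommRing (B i)] [∀ i, Algebra R (B i)]
    (π : ∀ i, A' →ₐ[R] B i) : Prop where
  surj : ∀ i, Function.Surjective (π i)
  joint : ∀ x, (∀ i, π i x = 0) → x = 0
  coprime : ∀ i j, i ≠ j → RingHom.ker (π i) ⊔ RingHom.ker (π j) = ⊤
  min : ∀ i, RingHom.ker (algebraMap R (B i)) ∈ minimalPrimes R
  inj : ∀ i j, RingHom.ker (algebraMap R (B i)) = RingHom.ker (algebraMap R (B j)) → i = j
  exhaust : ∀ p ∈ minimalPrimes R, ∃ i, RingHom.ker (algebraMap R (B i)) = p
  frac : ∀ i (x : B i), ∃ a b : R, algebraMap R (B i) a ≠ 0 ∧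
    algebraMap R (B i) a * x = algebraMap R (B i) b

variable {R A' : Type u} [CommRing R] [CommRing A'] [Algebra R A'] [Algebra.IsIntegral R A']
  {ι : Type u} [Finite ι] {B : ι → Type u} [∀ i, CommRing (B i)] [∀ i, Algebra R (B i)]
  [∀ i, IsDomain (B i)] {π : ∀ i, A' →ₐ[R] B i}
  {H : Type u} [CommRing H] [Algebra R H]

lemma IsNormSplit.exists_ker_le (hs : IsNormSplit R A' B π) (Q : Ideal A') [Q.IsPrime] :
    ∃ i, RingHom.ker (π i) ≤ Q := by
  classical
  haveI := Fintype.ofFinite ι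
  by_contra hne
  push Not at hne
  choose x hx hxQ using fun i => SetLike.not_le_iff_exists.mp (hne i)
  have h0 : ∏ i, x i = 0 := hs.joint _ fun i => by
    rw [map_prod]
    exact Finset.prod_eq_zero (Finset.mem_univ i) (hx i)
  obtain ⟨i, -, hi⟩ := (Ideal.IsPrime.prod_mem_iff (p := Q)).mp (h0 ▸ Q.zero_mem)
  exact hxQ i hi

lemma IsNormSplit.ker_unique (hs : IsNormSplit R A' B π) (Q : Ideal A') [Q.IsPrime] {i j : ι}
    (hi : RingHom.ker (π i) ≤ Q) (hj : RingHom.ker (π j) ≤ Q) : i = j := by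
  by_contra h
  exact Ideal.IsPrime.ne_top ‹_› (top_le_iff.mp ((hs.coprime i j h).ge.trans (sup_le hi hj)))

lemma IsNormSplit.mem_minimal (hs : IsNormSplit R A' B π) (i : ι) :
    RingHom.ker (π i) ∈ minimalPrimes A' := by
  refine ⟨⟨RingHom.ker_isPrime _, bot_le⟩, fun Q hQ hle => ?_⟩
  haveI := hQ.1
  haveI : (RingHom.ker (π i)).IsPrime := RingHom.ker_isPrime _
  obtain ⟨j, hj⟩ := hs.exists_ker_le Q
  rwa [hs.ker_unique _ le_rfl (hj.trans hle)]

lemma IsNormSplit.eq_ker (hs : IsNormSplit R A' B π) {Q : Ideal A'} (hQ : Q ∈ minimalPrimes A') :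
    ∃ i, Q = RingHom.ker (π i) := by
  haveI := hQ.1.1
  obtain ⟨i, hi⟩ := hs.exists_ker_le Q
  exact ⟨i, le_antisymm (hQ.2 ⟨RingHom.ker_isPrime _, bot_le⟩ hi) hi⟩

lemma IsNormSplit.ker_le_nilradical (hs : IsNormSplit R A' B π) :
    RingHom.ker (algebraMap R A') ≤ nilradical R := by
  intro a ha
  rw [nilradical, ← Ideal.sInf_minimalPrimes (I := (0 : Ideal R)), Submodule.mem_sInf]
  intro p hp
  obtain ⟨i, rfl⟩ := hs.exhaust p hp
  show algebraMap R (B i) a = 0
  rw [← (π i).commutes, RingHom.mem_ker.mp ha, map_zero]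

lemma isIntegral_includeRight' :
    (Algebra.TensorProduct.includeRight : H →ₐ[R] A' ⊗[R] H).toRingHom.IsIntegral := by
  intro x
  induction x using TensorProduct.induction_on with
  | zero => exact RingHom.isIntegralElem_zero _
  | tmul a z =>
    rw [show a ⊗ₜ[R] z = (a ⊗ₜ[R] (1 : H)) * ((1 : A') ⊗ₜ[R] z) by
      rw [Algebra.TensorProduct.tmul_mul_tmul, mul_one, one_mul]]
    refine RingHom.IsIntegralElem.mul _ ?_ (RingHom.isIntegralElem_map _)
    obtain ⟨p, hp, h0⟩ := Algebra.IsIntegral.isIntegral (R := R) a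
    refine ⟨p.map (algebraMap R H), hp.map _, ?_⟩
    rw [Polynomial.eval₂_map]
    have h1 := congrArg (Algebra.TensorProduct.includeLeft : A' →ₐ[R] A' ⊗[R] H).toRingHom h0
    rw [Polynomial.hom_eval₂, map_zero] at h1
    have hc : (Algebra.TensorProduct.includeRight : H →ₐ[R] A' ⊗[R] H).toRingHom.comp
        (algebraMap R H) =
        (Algebra.TensorProduct.includeLeft : A' →ₐ[R] A' ⊗[R] H).toRingHom.comp (algebraMap R A') :=
      (AlgHom.comp_algebraMap (Algebra.TensorProduct.includeRight : H →ₐ[R] A' ⊗[R] H)).trans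
        (AlgHom.comp_algebraMap (Algebra.TensorProduct.includeLeft : A' →ₐ[R] A' ⊗[R] H)).symm
    rw [hc]
    exact h1
  | add x y hx hy => exact RingHom.IsIntegralElem.add _ hx hy

/-- The properties of a henselization used here. -/
structure IsHensLike (R H : Type u) [CommRing R] [CommRing H] [Algebra R H] {ι : Type u}
    (B : ι → Type u) [∀ i, CommRing (B i)] [∀ i, Algebra R (B i)] : Prop where
  incomp : ∀ q q' : Ideal H, q.IsPrime → q'.IsPrime → q ≤ q' →
    q.comap (algebraMap R H) = q'.comap (algebraMap R H) → q = q'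
  same : ∀ i (M P P' : Ideal (B i ⊗[R] H)), M.IsPrime → P.IsPrime → P'.IsPrime →
    P.comap (algebraMap (B i) (B i ⊗[R] H)) = ⊥ → P'.comap (algebraMap (B i) (B i ⊗[R] H)) = ⊥ →
    P ≤ M → P' ≤ M → P = P'

variable [Module.Flat R H]

/-- Primes over one minimal prime of `A'` inside one prime coincide. -/
lemma eq_of_le_same_split (hs : IsNormSplit R A' B π) (hH : IsHensLike R H B) (i : ι)
    (M P P' : Ideal (A' ⊗[R] H)) [M.IsPrime] [P.IsPrime] [P'.IsPrime]
    (hP : P.comap (algebraMap A' (A' ⊗[R] H)) = RingHom.ker (π i))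
    (hP' : P'.comap (algebraMap A' (A' ⊗[R] H)) = RingHom.ker (π i)) (h : P ≤ M) (h' : P' ≤ M) :
    P = P' := by
  let g : A' ⊗[R] H →ₐ[R] B i ⊗[R] H := Algebra.TensorProduct.map (π i) (AlgHom.id R H)
  have hg : Function.Surjective g :=
    LinearMap.rTensor_surjective H (g := (π i).toLinearMap) (hs.surj i)
  have hker : ∀ Q : Ideal (A' ⊗[R] H), RingHom.ker (π i) ≤ Q.comap (algebraMap A' (A' ⊗[R] H)) →
      RingHom.ker g.toRingHom ≤ Q := fun Q hQ => by
    show RingHom.ker g ≤ Q
    rw [Algebra.TensorProduct.rTensor_ker (π i) (hs.surj i), Ideal.map_le_iff_le_comap]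
    exact hQ
  have kP := hker P hP.ge
  have kP' := hker P' hP'.ge
  have kM : RingHom.ker g.toRingHom ≤ M := kP.trans h
  have hback : ∀ Q : Ideal (A' ⊗[R] H), RingHom.ker g.toRingHom ≤ Q →
      (Q.map g.toRingHom).comap g.toRingHom = Q := fun Q hQ => by
    rw [Ideal.comap_map_of_surjective' g.toRingHom hg, sup_eq_left.mpr hQ]
  have hbot : ∀ Q : Ideal (A' ⊗[R] H), RingHom.ker g.toRingHom ≤ Q →
      Q.comap (algebraMap A' (A' ⊗[R] H)) = RingHom.ker (π i) →
      (Q.map g.toRingHom).comap (algebraMap (B i) (B i ⊗[R] H)) = ⊥ := fun Q hQ hQc => by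
    refine le_bot_iff.mp fun b hb => ?_
    obtain ⟨a, rfl⟩ := hs.surj i b
    have h1 : algebraMap A' (A' ⊗[R] H) a ∈ (Q.map g.toRingHom).comap g.toRingHom := by
      show g (a ⊗ₜ[R] (1 : H)) ∈ Q.map g.toRingHom
      rw [Algebra.TensorProduct.map_tmul, map_one]
      exact hb
    rw [hback Q hQ] at h1
    exact Ideal.mem_bot.mpr (hQc.le h1 : a ∈ RingHom.ker (π i))
  have e := hH.same i (M.map g.toRingHom) (P.map g.toRingHom) (P'.map g.toRingHom)
    (Ideal.map_isPrime_of_surjective hg kM) (Ideal.map_isPrime_of_surjective hg kP)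
    (Ideal.map_isPrime_of_surjective hg kP') (hbot P kP hP) (hbot P' kP' hP')
    (Ideal.map_mono h) (Ideal.map_mono h')
  rw [← hback P kP, e, hback P' kP']

lemma comap_minimal_of_flat {S T : Type u} [CommRing S] [CommRing T] [Algebra S T] [Module.Flat S T]
    {P : Ideal T} (hP : P ∈ minimalPrimes T) : P.comap (algebraMap S T) ∈ minimalPrimes S := by
  haveI := hP.1.1
  refine ⟨⟨inferInstance, bot_le⟩, fun p hp hle => ?_⟩
  haveI := hp.1
  haveI : P.LiesOver (P.under S) := ⟨rfl⟩
  obtain ⟨Q, hQle, hQp, hQo⟩ := Ideal.exists_ideal_le_liesOver_of_le (p := p) (q := P.under S) P hle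
  have hQP : Q = P := le_antisymm hQle (hP.2 ⟨hQp, bot_le⟩ hQle)
  rw [hQo.over, hQP]

lemma exists_comap_eq_ker (hs : IsNormSplit R A' B π) {P : Ideal (A' ⊗[R] H)}
    (hP : P ∈ minimalPrimes (A' ⊗[R] H)) :
    ∃ i, P.comap (algebraMap A' (A' ⊗[R] H)) = RingHom.ker (π i) :=
  hs.eq_ker (comap_minimal_of_flat hP)

/-- Contraction to the henselization is bijective on minimal primes. -/
theorem bijOn_minimalPrimes (hs : IsNormSplit R A' B π) (hH : IsHensLike R H B) :
    Set.BijOn (fun P : Ideal (A' ⊗[R] H) =>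
        P.comap (Algebra.TensorProduct.includeRight.toRingHom : H →+* A' ⊗[R] H))
      (minimalPrimes (A' ⊗[R] H)) (minimalPrimes H) := by
  let ψ : H →ₐ[R] A' ⊗[R] H := Algebra.TensorProduct.includeRight
  have halg : ψ.toRingHom.comp (algebraMap R H) =
      (algebraMap A' (A' ⊗[R] H)).comp (algebraMap R A') :=
    ψ.comp_algebraMap.trans (IsScalarTower.algebraMap_eq R A' _)
  have hR : ∀ P : Ideal (A' ⊗[R] H), ∀ i,
      P.comap (algebraMap A' (A' ⊗[R] H)) = RingHom.ker (π i) →
      (P.comap ψ.toRingHom).comap (algebraMap R H) = RingHom.ker (algebraMap R (B i)) := by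
    intro P i hP
    rw [Ideal.comap_comap, halg, ← Ideal.comap_comap, hP]
    show Ideal.comap _ (RingHom.ker (π i).toRingHom) = _
    rw [RingHom.comap_ker]
    congr 1
    exact RingHom.ext (π i).commutes
  refine ⟨fun P hP => ?_, fun P hP P' hP' hPP => ?_, fun q hq => ?_⟩
  · haveI := hP.1.1
    obtain ⟨i, hi⟩ := exists_comap_eq_ker hs hP
    refine ⟨⟨Ideal.IsPrime.comap _, bot_le⟩, fun q hq hle => ?_⟩
    haveI := hq.1
    refine (hH.incomp q _ hq.1 (Ideal.IsPrime.comap _) hle ?_).ge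
    refine le_antisymm (Ideal.comap_mono hle) ?_
    rw [hR P i hi]
    exact (hs.min i).2 ⟨inferInstance, bot_le⟩ ((Ideal.comap_mono hle).trans (hR P i hi).le)
  · haveI := hP.1.1
    haveI := hP'.1.1
    have hc : P.comap ψ.toRingHom = P'.comap ψ.toRingHom := hPP
    obtain ⟨i, hi⟩ := exists_comap_eq_ker hs hP
    obtain ⟨j, hj⟩ := exists_comap_eq_ker hs hP'
    obtain rfl : i = j := hs.inj i j (by rw [← hR P i hi, ← hR P' j hj, hc])
    have key : ∀ x : A' ⊗[R] H, ∃ (a : R) (z : H), algebraMap R (B i) a ≠ 0 ∧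
        ∀ Q : Ideal (A' ⊗[R] H), RingHom.ker (π i) ≤ Q.comap (algebraMap A' (A' ⊗[R] H)) →
          algebraMap R (A' ⊗[R] H) a * x - ψ z ∈ Q := by
      intro x
      induction x using TensorProduct.induction_on with
      | zero => exact ⟨1, 0, by simp, fun Q _ => by simp⟩
      | tmul c z =>
        obtain ⟨a, b, ha, hb⟩ := hs.frac i (π i c)
        refine ⟨a, b • z, ha, fun Q hQ => ?_⟩
        have hd : algebraMap R A' a * c - algebraMap R A' b ∈ RingHom.ker (π i) := by
          rw [RingHom.mem_ker, map_sub, map_mul, AlgHom.commutes, AlgHom.commutes, hb, sub_self]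
        have e : algebraMap R (A' ⊗[R] H) a * (c ⊗ₜ[R] z) - ψ (b • z) =
            algebraMap A' (A' ⊗[R] H) (algebraMap R A' a * c - algebraMap R A' b) * ψ z := by
          rw [map_smul, Algebra.smul_def, map_sub, map_mul, sub_mul,
            ← IsScalarTower.algebraMap_apply, ← IsScalarTower.algebraMap_apply, mul_assoc]
          congr 2
          show c ⊗ₜ[R] z = (c ⊗ₜ[R] (1 : H)) * ((1 : A') ⊗ₜ[R] z)
          rw [Algebra.TensorProduct.tmul_mul_tmul, mul_one, one_mul]
        rw [e]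
        exact Q.mul_mem_right _ (hQ hd)
      | add v w hv hw =>
        obtain ⟨a, z, ha, hz⟩ := hv
        obtain ⟨a', z', ha', hz'⟩ := hw
        refine ⟨a * a', a' • z + a • z', by rw [map_mul]; exact mul_ne_zero ha ha', fun Q hQ => ?_⟩
        have e : algebraMap R (A' ⊗[R] H) (a * a') * (v + w) - ψ (a' • z + a • z') =
            algebraMap R _ a' * (algebraMap R _ a * v - ψ z) +
            algebraMap R _ a * (algebraMap R _ a' * w - ψ z') := by
          rw [map_add ψ, map_smul, map_smul, Algebra.smul_def, Algebra.smul_def, map_mul]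
          ring
        rw [e]
        exact Q.add_mem (Q.mul_mem_left _ (hz Q hQ)) (Q.mul_mem_left _ (hz' Q hQ))
    refine Ideal.ext fun x => ?_
    obtain ⟨a, z, ha, hz⟩ := key x
    have hmem : ∀ Q : Ideal (A' ⊗[R] H), Q.IsPrime →
        Q.comap (algebraMap A' (A' ⊗[R] H)) = RingHom.ker (π i) →
        (x ∈ Q ↔ z ∈ Q.comap ψ.toRingHom) := fun Q hQp hQ => by
      show _ ↔ ψ z ∈ Q
      constructor
      · intro hx
        exact (Submodule.sub_mem_iff_right _ (Q.mul_mem_left _ hx)).mp (hz Q hQ.ge)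
      · intro hψz
        refine (hQp.mem_or_mem ((Submodule.sub_mem_iff_left _ hψz).mp (hz Q hQ.ge))).resolve_left
          fun h => ha ?_
        rw [IsScalarTower.algebraMap_apply R A' (A' ⊗[R] H)] at h
        have h2 : algebraMap R A' a ∈ Q.comap (algebraMap A' (A' ⊗[R] H)) := h
        rw [hQ, RingHom.mem_ker, AlgHom.commutes] at h2
        exact h2
    rw [hmem P inferInstance hi, hmem P' inferInstance hj, hc]
  · haveI := hq.1.1
    have hk : RingHom.ker ψ.toRingHom ≤ q := fun z hz =>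
      Ideal.map_le_iff_le_comap.mpr
        (hs.ker_le_nilradical.trans (nilradical_le_prime _))
        (mem_map_of_one_tmul_eq_zero (A' := A') z hz)
    letI : Algebra H (A' ⊗[R] H) := ψ.toRingHom.toAlgebra
    haveI : Algebra.IsIntegral H (A' ⊗[R] H) := ⟨isIntegral_includeRight'⟩
    obtain ⟨P, -, hPp, hPq⟩ := Ideal.exists_ideal_over_prime_of_isIntegral q
      (⊥ : Ideal (A' ⊗[R] H)) hk
    haveI := hPp
    obtain ⟨P₀, hP₀, hle⟩ := Ideal.exists_minimalPrimes_le (bot_le : (⊥ : Ideal (A' ⊗[R] H)) ≤ P)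
    haveI := hP₀.1.1
    exact ⟨P₀, hP₀, le_antisymm ((Ideal.comap_mono hle).trans hPq.le)
      (hq.2 ⟨Ideal.IsPrime.comap _, bot_le⟩ ((Ideal.comap_mono hle).trans hPq.le))⟩

/-- Each minimal prime lies in one maximal ideal and each maximal ideal contains one minimal prime. -/
theorem existsUnique_minimal_maximal [HenselianLocalRing H] (hs : IsNormSplit R A' B π)
    (hH : IsHensLike R H B) :
    (∀ q ∈ minimalPrimes (A' ⊗[R] H), ∃! m : Ideal (A' ⊗[R] H), m.IsMaximal ∧ q ≤ m) ∧
      (∀ m : Ideal (A' ⊗[R] H), m.IsMaximal →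
        ∃! q : Ideal (A' ⊗[R] H), q ∈ minimalPrimes (A' ⊗[R] H) ∧ q ≤ m) := by
  refine ⟨fun q hq => ?_, fun m hm => ?_⟩
  · haveI := hq.1.1
    obtain ⟨m, hm, hqm⟩ := Ideal.exists_le_maximal q hq.1.1.ne_top
    exact ⟨m, ⟨hm, hqm⟩, fun m' hm' => eq_of_le_maximal (P := q)
      (Algebra.TensorProduct.includeRight : H →ₐ[R] A' ⊗[R] H).toRingHom
      isIntegral_includeRight' hm'.1 hm hm'.2 hqm⟩
  · haveI := hm.isPrime
    obtain ⟨q, hq, hqm⟩ := Ideal.exists_minimalPrimes_le (bot_le : (⊥ : Ideal (A' ⊗[R] H)) ≤ m)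
    refine ⟨q, ⟨hq, hqm⟩, fun q' ⟨hq', hqm'⟩ => ?_⟩
    haveI := hq.1.1
    haveI := hq'.1.1
    obtain ⟨i, hi⟩ := exists_comap_eq_ker hs hq
    obtain ⟨j, hj⟩ := exists_comap_eq_ker hs hq'
    obtain rfl : i = j := hs.ker_unique (m.comap (algebraMap A' (A' ⊗[R] H)))
      (hi ▸ Ideal.comap_mono hqm) (hj ▸ Ideal.comap_mono hqm')
    exact eq_of_le_same_split hs hH i m q' q hj hi hqm' hqm

end

section provider

variable {R : Type u} [CommRing R] [IsLocalRing R] {K : Type u} [Field K] [Algebra R K]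
  [Algebra (ResidueField R) K] [IsScalarTower R (ResidueField R) K]
  {ι : Type u} {B : ι → Type u} [∀ i, CommRing (B i)] [∀ i, Algebra R (B i)]
  [∀ i, IsDomain (B i)] [∀ i, IsIntegrallyClosed (B i)]
  {H : Type u} [CommRing H] [Algebra R H]

/-- Algebras isomorphic to a henselization qualify. -/
theorem isHensLike_of_equiv (e : Hz R K ≃ₐ[R] H) : IsHensLike R H B where
  incomp q q' hq hq' hle hc := by
    haveI := hq; haveI := hq'
    have hcomp : e.toRingEquiv.toRingHom.comp (algebraMap R (Hz R K)) = algebraMap R H :=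
      RingHom.ext e.commutes
    have h := eq_of_le_of_comap_eq (P := q.comap e.toRingEquiv.toRingHom)
      (Q := q'.comap e.toRingEquiv.toRingHom) (Ideal.comap_mono hle)
      (by rw [Ideal.comap_comap, Ideal.comap_comap, hcomp, hc])
    exact Ideal.comap_injective_of_surjective _ e.surjective h
  same i M P P' hM hP hP' hb hb' h h' := by
    haveI := hM; haveI := hP; haveI := hP'
    let E : B i ⊗[R] Hz R K ≃ₐ[B i] B i ⊗[R] H := Algebra.TensorProduct.congr AlgEquiv.refl e
    have hcomp : E.toRingEquiv.toRingHom.comp (algebraMap (B i) (B i ⊗[R] Hz R K)) =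
        algebraMap (B i) (B i ⊗[R] H) := RingHom.ext E.commutes
    have h := eq_of_le_same (A' := B i) (M.comap E.toRingEquiv.toRingHom)
      (P.comap E.toRingEquiv.toRingHom) (P'.comap E.toRingEquiv.toRingHom)
      (by rw [Ideal.comap_comap, hcomp, hb]) (by rw [Ideal.comap_comap, hcomp, hb'])
      (Ideal.comap_mono h) (Ideal.comap_mono h')
    exact Ideal.comap_injective_of_surjective _ E.surjective h

end provider

variable (A : Type u) [CommRing A]

/-- The normalisation of the reduction splits. -/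
theorem exists_isNormSplit (h : (minimalPrimes A).Finite) :
    ∃ π : ∀ p : minimalPrimes A, CAlg2.normRed A →ₐ[A] CAlg2.normRed (A ⧸ p.1),
      IsNormSplit A (CAlg2.normRed A) (fun p : minimalPrimes A => CAlg2.normRed (A ⧸ p.1)) π := by
  classical
  obtain ⟨e, he⟩ := BranchLib.exists_normRed_pi_equiv A h
  haveI : ∀ p : minimalPrimes A, p.1.IsPrime := fun p => p.2.1.1
  let π : ∀ p : minimalPrimes A, CAlg2.normRed A →ₐ[A] CAlg2.normRed (A ⧸ p.1) := fun p =>
    { (Pi.evalRingHom (fun p : minimalPrimes A => CAlg2.normRed (A ⧸ p.1)) p).comp e.toRingHom with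
      commutes' := fun a => he a p }
  have hπ : ∀ p x, π p x = e x p := fun p x => rfl
  refine ⟨π, fun p y => ⟨e.symm (Pi.single p y), ?_⟩, fun x hx => ?_, fun p p' hne => ?_,
    fun p => ?_, fun p p' hpp => ?_, fun q hq => ⟨⟨q, hq⟩, ?_⟩, fun p => normRed_frac p.1⟩
  · rw [hπ, e.apply_symm_apply, Pi.single_eq_same]
  · exact e.injective (funext fun p => (hx p).trans (congrFun (map_zero e) p).symm)
  · rw [Ideal.eq_top_iff_one]
    have h1 : e.symm (Pi.single p' 1) ∈ RingHom.ker (π p) := by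
      rw [RingHom.mem_ker, hπ, e.apply_symm_apply, Pi.single_eq_of_ne hne]
    have h2 : 1 - e.symm (Pi.single p' 1) ∈ RingHom.ker (π p') := by
      rw [RingHom.mem_ker, map_sub, map_one, hπ, e.apply_symm_apply, Pi.single_eq_same, sub_self]
    simpa using Submodule.add_mem_sup h1 h2
  · rw [ker_algebraMap_normRed]; exact p.2
  · rw [ker_algebraMap_normRed, ker_algebraMap_normRed] at hpp
    exact Subtype.ext hpp
  · haveI := hq.1.1
    exact ker_algebraMap_normRed q

theorem normRed_isIntegral_self : Algebra.IsIntegral A (CAlg2.normRed A) :=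
  ⟨fun x => BranchLib.isIntegral_toNormRed A x⟩

end Groth.Agent.HensBranch
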