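import Groth.Agent.HensBranch.EtaleNbhd
import Groth.Agent.BranchLib.Count

/-!
# Etale morphisms preserve being a geometrically unibranch domain
-/

set_option autoImplicit false
set_option linter.style.haveILetI false
set_option backward.isDefEq.respectTransparency false
set_option backward.defeqAttrib.useBackward true

universe u

open CategoryTheory CategoryTheory.Limits AlgebraicGeometry IsLocalRing

namespace Groth.Agent.HensBranch

open Henselization

noncomputable section

variable {X Y : Scheme.{u}} (g : X ⟶ Y) [Etale g] (x : X)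

theorem numGeomBranchesAt_le_of_etale :
    Brnch.numGeomBranchesAt X x ≤ Brnch.numGeomBranchesAt Y (g x) := by
  rw [numGeomBranchesAt_eq_iSup x, numGeomBranchesAt_eq_iSup (g x)]
  refine iSup_le fun U => iSup_le fun h => iSup_le fun u => iSup_le fun ⟨hh, hu⟩ => ?_
  haveI := hh
  exact le_iSup_of_le U (le_iSup_of_le (h ≫ g) (le_iSup_of_le u (le_iSup_of_le
    ⟨inferInstance, by rw [Scheme.Hom.comp_apply, hu]⟩ le_rfl)))

theorem isGeomUnibranch_of_etale (h : CAlg2.IsGeomUnibranch (Y.presheaf.stalk (g x))) :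
    CAlg2.IsGeomUnibranch (X.presheaf.stalk x) := by
  have h1 : Brnch.numGeomBranchesAt X x ≤ 1 :=
    (numGeomBranchesAt_le_of_etale g x).trans
      ((BranchLib.numGeomBranches_eq_one_iff _).mpr h).le
  refine (BranchLib.numGeomBranches_eq_one_iff _).mp (le_antisymm h1 ?_)
  show 1 ≤ Brnch.numGeomBranchesAt X x
  rw [numGeomBranchesAt_eq_iSup x]
  refine le_iSup_of_le X (le_iSup_of_le (𝟙 X) (le_iSup_of_le x (le_iSup_of_le ⟨inferInstance, rfl⟩ ?_)))
  exact Set.one_le_encard_iff_nonempty.mpr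
    ⟨irreducibleComponent x, irreducibleComponent_mem_irreducibleComponents x, mem_irreducibleComponent⟩

theorem isReduced_stalk_of_etale [_root_.IsReduced (Y.presheaf.stalk (g x))] :
    _root_.IsReduced (X.presheaf.stalk x) := by
  let A := Y.presheaf.stalk (g x)
  letI : Algebra A (X.presheaf.stalk x) := (g.stalkMap x).hom.toAlgebra
  haveI : IsLocalHom (algebraMap A (X.presheaf.stalk x)) := g.toLRSHom.prop x
  haveI : Algebra.FormallyUnramified A (X.presheaf.stalk x) := FormallyUnramified.stalkMap g x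
  haveI : Algebra.EssFiniteType A (X.presheaf.stalk x) := LocallyOfFiniteType.stalkMap g x
  let σ : ResidueField (X.presheaf.stalk x) →ₐ[ResidueField A]
      SeparableClosure (ResidueField A) := IsSepClosed.lift
  obtain ⟨_, ⟨W : Y.Opens, hW, rfl⟩, hxW, -⟩ :=
    Y.isBasis_affineOpens.exists_subset_of_mem_open (Set.mem_univ (g x)) isOpen_univ
  obtain ⟨_, ⟨V : X.Opens, hV, rfl⟩, huV, hVW⟩ :=
    X.isBasis_affineOpens.exists_subset_of_mem_open (a := x) (u := ↑(g ⁻¹ᵁ W)) hxW (g ⁻¹ᵁ W).2
  have het := g.etale_appLE hW hV hVW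
  algebraize [(g.appLE W V hVW).hom]
  letI : Algebra Γ(X, V) (X.presheaf.stalk x) :=
    TopCat.Presheaf.algebra_section_stalk X.presheaf ⟨x, huV⟩
  letI : Algebra Γ(Y, W) (Y.presheaf.stalk (g x)) :=
    TopCat.Presheaf.algebra_section_stalk Y.presheaf ⟨g x, hxW⟩
  haveI : IsLocalization.AtPrime (X.presheaf.stalk x) (hV.primeIdealOf ⟨x, huV⟩).asIdeal :=
    hV.isLocalization_stalk ⟨x, huV⟩
  haveI : IsLocalization.AtPrime (Y.presheaf.stalk (g x)) (hW.primeIdealOf ⟨g x, hxW⟩).asIdeal :=
    hW.isLocalization_stalk ⟨g x, hxW⟩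
  letI : Algebra Γ(Y, W) (X.presheaf.stalk x) :=
    ((X.presheaf.germ V x huV).hom.comp (g.appLE W V hVW).hom).toAlgebra
  haveI : IsScalarTower Γ(Y, W) Γ(X, V) (X.presheaf.stalk x) := .of_algebraMap_eq fun _ => rfl
  haveI : IsScalarTower Γ(Y, W) (Y.presheaf.stalk (g x)) (X.presheaf.stalk x) :=
    .of_algebraMap_eq fun r => by
      show X.presheaf.germ V x huV (g.appLE W V hVW r) =
        g.stalkMap x (Y.presheaf.germ W (g x) hxW r)
      rw [Scheme.Hom.germ_stalkMap_apply, Scheme.Hom.appLE, CommRingCat.comp_apply,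
        X.presheaf.germ_res_apply]
  let σ' : X.presheaf.stalk x →ₐ[A] SeparableClosure (ResidueField A) :=
    { toRingHom := σ.toRingHom.comp (X.residue x).hom
      commutes' := fun r => (σ.commutes (residue A r)).trans
        (IsScalarTower.algebraMap_apply A (ResidueField A) (SeparableClosure (ResidueField A)) r).symm }
  obtain ⟨j, ⟨e⟩⟩ := exists_idx_of_localization (C := Γ(Y, W)) (R := A)
    (hW.primeIdealOf ⟨g x, hxW⟩).asIdeal (B := Γ(X, V)) (L := X.presheaf.stalk x)
    (hV.primeIdealOf ⟨x, huV⟩).asIdeal σ'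
    (fun z => (map_eq_zero_iff σ.toRingHom σ.toRingHom.injective).trans (IsLocalRing.residue_eq_zero_iff z))
  haveI : _root_.IsReduced (Hz A (SeparableClosure (ResidueField A))) := Henselization.isReduced
  exact isReduced_of_injective ((ι j).toRingHom.comp e.toRingHom)
    ((ι_injective j).comp e.injective)

theorem isDomain_and_isGeomUnibranch_of_etale [IsDomain (Y.presheaf.stalk (g x))]
    (h : CAlg2.IsGeomUnibranch (Y.presheaf.stalk (g x))) :
    IsDomain (X.presheaf.stalk x) ∧ CAlg2.IsGeomUnibranch (X.presheaf.stalk x) := by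
  have h' := isGeomUnibranch_of_etale g x h
  haveI := isReduced_stalk_of_etale g x
  refine ⟨?_, h'⟩
  haveI : IsDomain (CAlg2.red (X.presheaf.stalk x)) := h'.1.1
  exact ((Ideal.quotEquivOfEq (nilradical_eq_zero _)).trans
    (RingEquiv.quotientBot _)).symm.toMulEquiv.isDomain _

omit [Etale g] in
/-- Geometric branches at a point of an open subscheme. -/
theorem numGeomBranchesAt_opens (U : X.Opens) (u : U) :
    Brnch.numGeomBranchesAt X (U.ι u) ≤ Brnch.numGeomBranchesAt U u := by
  refine le_trans (le_of_eq (numGeomBranchesAt_eq_iSup (U.ι u))) (le_trans ?_ (le_of_eq (numGeomBranchesAt_eq_iSup (X := (U : Scheme.{u})) u).symm))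
  refine iSup_le fun V => iSup_le fun h => iSup_le fun v => iSup_le fun ⟨hh, hv⟩ => ?_
  haveI := hh
  let V' : V.Opens := h ⁻¹ᵁ U
  have hvU : v ∈ V' := by show h v ∈ U; rw [hv]; exact u.2
  have hrange : Set.range (V'.ι ≫ h) ⊆ Set.range U.ι := by
    rintro _ ⟨w, rfl⟩
    rw [Scheme.Opens.range_ι]
    exact w.2
  let h' : (V' : Scheme.{u}) ⟶ U := IsOpenImmersion.lift U.ι (V'.ι ≫ h) hrange
  have hfac : h' ≫ U.ι = V'.ι ≫ h := IsOpenImmersion.lift_fac _ _ _
  haveI : Etale h' := by
    haveI : Etale (h' ≫ U.ι) := by rw [hfac]; infer_instance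
    exact Etale.of_comp h' U.ι
  refine le_iSup_of_le (V' : Scheme.{u}) (le_iSup_of_le h' (le_iSup_of_le ⟨v, hvU⟩ (le_iSup_of_le
    ⟨inferInstance, U.ι.isEmbedding.injective ?_⟩ ?_)))
  · rw [← Scheme.Hom.comp_apply, hfac]
    exact hv
  · rw [encard_components_eq, encard_components_eq]
    exact (card_minimalPrimes_congr (V'.stalkIso ⟨v, hvU⟩).commRingCatIsoToRingEquiv).ge

end

end Groth.Agent.HensBranch
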