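import Groth.Agent.HensBranch.Stage
import Groth.Agent.HensBranch.Model

/-!
# Branches of a quotient through stages
-/

set_option autoImplicit false
set_option linter.style.haveILetI false
set_option linter.unusedSectionVars false

universe u

open IsLocalRing

namespace Groth.Agent.HensBranch

open Henselization

noncomputable section

/-- Minimal primes of a quotient by an image ideal. -/
theorem card_minimalPrimes_of_surjective {S T : Type u} [CommRing S] [CommRing T] (π : S →+* T)
    (hπ : Function.Surjective π) :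
    ENat.card (RingHom.ker π).minimalPrimes = ENat.card (minimalPrimes T) := by
  have h : (RingHom.ker π).minimalPrimes = Ideal.comap π '' minimalPrimes T := by
    rw [RingHom.ker_eq_comap_bot]
    exact Ideal.comap_minimalPrimes_eq_of_surjective hπ (I := ⊥)
  rw [h]
  exact (ENat.card_congr (Equiv.Set.image _ (minimalPrimes T)
    (Ideal.comap_injective_of_surjective π hπ))).symm

theorem card_minimalPrimes_quotient {S : Type u} [CommRing S] (J : Ideal S) :
    ENat.card (minimalPrimes (S ⧸ J)) = ENat.card J.minimalPrimes := by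
  rw [← card_minimalPrimes_of_surjective (Ideal.Quotient.mk J) Ideal.Quotient.mk_surjective, Ideal.mk_ker]

section stages

variable {R : Type u} [CommRing R] {K : Type u} [Field K] [Algebra R K] [IsLocalRing R]
  [Algebra (ResidueField R) K] [IsScalarTower R (ResidueField R) K] (I : Ideal R)

attribute [local instance] algebraStage

lemma map_le_of_stage (i : Idx R K) {P : Ideal (Hz R K)}
    (h : I.map (algebraMap R i.L) ≤ P.comap (ι i).toRingHom) :
    I.map (algebraMap R (Hz R K)) ≤ P := by
  rw [← map_map_ι i I]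
  exact Ideal.map_le_iff_le_comap.mpr h

lemma comap_ι_mem_minimalPrimes_over (i : Idx R K) {P : Ideal (Hz R K)}
    (hP : P ∈ (I.map (algebraMap R (Hz R K))).minimalPrimes) :
    P.comap (ι i).toRingHom ∈ (I.map (algebraMap R i.L)).minimalPrimes := by
  haveI := hP.1.1
  refine ⟨⟨Ideal.IsPrime.comap _, Ideal.map_le_iff_le_comap.mp ((map_map_ι i I).le.trans hP.1.2)⟩,
    fun p hp hle => ?_⟩
  haveI := hp.1
  haveI : P.LiesOver (P.under i.L) := ⟨rfl⟩
  obtain ⟨Q, hQle, hQp, hQo⟩ :=
    Ideal.exists_ideal_le_liesOver_of_le (p := p) (q := P.under i.L) P hle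
  have hQI : I.map (algebraMap R (Hz R K)) ≤ Q := map_le_of_stage I i (hp.2.trans hQo.over.le)
  exact (Ideal.comap_mono (hP.2 ⟨hQp, hQI⟩ hQle)).trans hQo.over.ge

lemma exists_minimalPrime_over_stage_over (i : Idx R K) {p : Ideal i.L}
    (hp : p ∈ (I.map (algebraMap R i.L)).minimalPrimes) :
    ∃ P ∈ (I.map (algebraMap R (Hz R K))).minimalPrimes, P.comap (ι i).toRingHom = p := by
  haveI := hp.1.1
  obtain ⟨Q, hQ⟩ := PrimeSpectrum.comap_surjective_of_faithfullyFlat (A := i.L) (B := Hz R K)
    ⟨p, inferInstance⟩
  have hQ' : Q.asIdeal.comap (ι i).toRingHom = p := congrArg PrimeSpectrum.asIdeal hQ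
  obtain ⟨P, hP, hPQ⟩ := Ideal.exists_minimalPrimes_le (J := Q.asIdeal)
    (map_le_of_stage I i (hp.1.2.trans hQ'.ge))
  refine ⟨P, hP, ?_⟩
  have h2 : P.comap (ι i).toRingHom ≤ p := (Ideal.comap_mono hPQ).trans hQ'.le
  exact le_antisymm h2 (hp.2 (comap_ι_mem_minimalPrimes_over I i hP).1 h2)

theorem card_minimalPrimes_over_eq_iSup :
    ENat.card (I.map (algebraMap R (Hz R K))).minimalPrimes =
      ⨆ i : Idx R K, ENat.card (I.map (algebraMap R i.L)).minimalPrimes := by
  classical
  let MP := (I.map (algebraMap R (Hz R K))).minimalPrimes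
  refine le_antisymm ?_ (iSup_le fun i => ?_)
  · have key : ∀ T : Finset MP, (T.card : ℕ∞) ≤
        ⨆ i : Idx R K, ENat.card (I.map (algebraMap R i.L)).minimalPrimes := fun T => by
      have hsep : ∀ P Q : MP, ∃ x : Hz R K, P ≠ Q → x ∈ P.1 ∧ x ∉ Q.1 := fun P Q => by
        by_cases h : P = Q
        · exact ⟨0, fun h' => absurd h h'⟩
        · obtain ⟨x, hx, hx'⟩ := Set.not_subset.mp fun hle =>
            h (Subtype.ext (le_antisymm hle (Q.2.2 P.2.1 hle)))
          exact ⟨x, fun _ => ⟨hx, hx'⟩⟩
      choose x hx using hsep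
      obtain ⟨i, hi⟩ := exists_lift_finset ((T ×ˢ T).image fun q => x q.1 q.2)
      refine le_iSup_of_le i ?_
      have hinj : Set.InjOn (fun P : MP => P.1.comap (ι i).toRingHom) ↑T := by
        intro P hP Q hQ hPQ
        by_contra hne
        obtain ⟨y, hy⟩ := hi (x P Q)
          (Finset.mem_image.mpr ⟨(P, Q), Finset.mem_product.mpr ⟨hP, hQ⟩, rfl⟩)
        obtain ⟨h1, h2⟩ := hx P Q hne
        have h3 : y ∈ P.1.comap (ι i).toRingHom := (hy ▸ h1 : ι i y ∈ P.1)
        exact h2 (hy ▸ ((SetLike.ext_iff.mp hPQ y).mp h3 : ι i y ∈ Q.1))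
      have h := ENat.card_le_card_of_injective
        (f := fun P : T => (⟨_, comap_ι_mem_minimalPrimes_over I i P.1.2⟩ :
          (I.map (algebraMap R i.L)).minimalPrimes))
        fun P Q h => Subtype.ext (hinj P.2 Q.2 (congrArg Subtype.val h))
      rw [ENat.card_eq_coe_fintype_card, Fintype.card_coe] at h
      exact h
    by_cases hfin : Finite MP
    · haveI := Fintype.ofFinite MP
      simpa [MP] using key Finset.univ
    · haveI : Infinite MP := not_finite_iff_infinite.mp hfin
      show ENat.card MP ≤ _
      rw [ENat.card_eq_top_of_infinite]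
      refine top_le_iff.mpr (ENat.eq_top_iff_forall_ge.mpr fun n => ?_)
      obtain ⟨T, hT⟩ := Infinite.exists_subset_card_eq MP n
      exact hT ▸ key T
  · let F : MP → (I.map (algebraMap R i.L)).minimalPrimes :=
      fun P => ⟨_, comap_ι_mem_minimalPrimes_over I i P.2⟩
    have hF : Function.Surjective F := fun p => by
      obtain ⟨P, hP, hPp⟩ := exists_minimalPrime_over_stage_over I i p.2
      exact ⟨⟨P, hP⟩, Subtype.ext hPp⟩
    exact ENat.card_le_card_of_injective (Function.injective_surjInv hF)

end stages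

section quotient

variable {R A S : Type u} [CommRing R] [IsLocalRing R] [CommRing A] [IsLocalRing A] [Algebra R A]
  [IsLocalHom (algebraMap R A)] [CommRing S] [IsLocalRing S] [Algebra R S] [IsLocalHom (algebraMap R S)]
  {T : Type u} [CommRing T] [IsLocalRing T] [Algebra A T] [IsLocalHom (algebraMap A T)]
  (π : S →+* T) [IsLocalHom π]

lemma henselian_of_surjective (hS : HenselianLocalRing S) (hπ : Function.Surjective π) :
    HenselianLocalRing T := by
  have h := Hensel.map_surjective (I := maximalIdeal S) (φ := π) hπ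
  have he : (maximalIdeal S).map π = maximalIdeal T := by
    refine le_antisymm (Ideal.map_le_iff_le_comap.mpr fun a ha => map_nonunit π a ha) fun t ht => ?_
    obtain ⟨s, rfl⟩ := hπ t
    exact Ideal.mem_map_of_mem π ((IsLocalRing.mem_maximalIdeal s).mpr fun hu => ht (hu.map π))
  rw [he] at h
  exact Hensel.henselianRing_maximalIdeal_iff.1 h

lemma kills_ker {T' : Type u} [CommRing T'] (f : A →+* T')
    (hker : RingHom.ker π = (RingHom.ker (algebraMap R A)).map (algebraMap R S)) (g : S →+* T')
    (hg : g.comp (algebraMap R S) = f.comp (algebraMap R A)) : RingHom.ker π ≤ RingHom.ker g := by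
  rw [hker, Ideal.map_le_iff_le_comap]
  intro a ha
  show g (algebraMap R S a) = 0
  rw [← RingHom.comp_apply g, hg, RingHom.comp_apply, RingHom.mem_ker.mp ha, map_zero]

theorem isHenselization_of_surjective [hS : _root_.Hensel.IsHenselization R S]
    (hA : Function.Surjective (algebraMap R A)) (hπ : Function.Surjective π)
    (hker : RingHom.ker π = (RingHom.ker (algebraMap R A)).map (algebraMap R S))
    (hcomp : π.comp (algebraMap R S) = (algebraMap A T).comp (algebraMap R A)) :
    _root_.Hensel.IsHenselization A T where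
  henselian := henselian_of_surjective π hS.henselian hπ
  universal T' _ _ f hf := by
    have hloc : IsLocalHom (f.comp (algebraMap R A)) := by
      haveI := hf
      exact RingHom.isLocalHom_comp _ _
    obtain ⟨g, hg, hu⟩ := hS.universal T' (f.comp (algebraMap R A)) hloc
    let g' : T →+* T' := π.liftOfSurjective hπ ⟨g, kills_ker π f hker g hg⟩
    have hg' : g'.comp π = g := RingHom.liftOfRightInverse_comp π _ _ _
    refine ⟨g', RingHom.ext fun a => ?_, fun g'' hg'' => ?_⟩
    · obtain ⟨r, rfl⟩ := hA a
      show g' (algebraMap A T (algebraMap R A r)) = _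
      rw [← RingHom.comp_apply (algebraMap A T), ← hcomp, ← RingHom.comp_apply g', ← RingHom.comp_assoc, hg', hg]
      rfl
    · have h2 : g''.comp π = g := hu _ (by show (g''.comp π).comp _ = _; rw [RingHom.comp_assoc, hcomp, ← RingHom.comp_assoc, hg''])
      refine RingHom.ext fun t => ?_
      obtain ⟨s, rfl⟩ := hπ t
      exact (RingHom.congr_fun h2 s).trans (RingHom.congr_fun hg' s).symm

theorem isStrictHenselization_of_surjective [hS : _root_.Hensel.IsStrictHenselization R S]
    (hA : Function.Surjective (algebraMap R A)) (hπ : Function.Surjective π)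
    (hker : RingHom.ker π = (RingHom.ker (algebraMap R A)).map (algebraMap R S))
    (hcomp : π.comp (algebraMap R S) = (algebraMap A T).comp (algebraMap R A)) :
    _root_.Hensel.IsStrictHenselization A T := by
  have hresA : Function.Surjective (ResidueField.map (algebraMap R A)) := fun x => by
    obtain ⟨a, rfl⟩ := residue_surjective x
    obtain ⟨r, rfl⟩ := hA a
    exact ⟨residue R r, ResidueField.map_residue _ r⟩
  have hresT : Function.Surjective (ResidueField.map π) := fun x => by
    obtain ⟨a, rfl⟩ := residue_surjective x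
    obtain ⟨r, rfl⟩ := hπ a
    exact ⟨residue S r, ResidueField.map_residue _ r⟩
  let eA := RingEquiv.ofBijective _ ⟨(ResidueField.map (algebraMap R A)).injective, hresA⟩
  let eT := RingEquiv.ofBijective _ ⟨(ResidueField.map π).injective, hresT⟩
  have hsq : (algebraMap (ResidueField A) (ResidueField T)).comp eA.toRingHom =
      eT.toRingHom.comp (algebraMap (ResidueField R) (ResidueField S)) := by
    refine RingHom.ext fun x => ?_
    obtain ⟨r, rfl⟩ := residue_surjective x
    show ResidueField.map (algebraMap A T) (ResidueField.map (algebraMap R A) (residue R r)) =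
      ResidueField.map π (ResidueField.map (algebraMap R S) (residue R r))
    simp only [ResidueField.map_residue]
    exact congrArg (residue T) (RingHom.congr_fun hcomp r).symm
  refine { henselian := henselian_of_surjective π hS.henselian hπ, isSepClosure := ?_, universal := ?_ }
  · haveI := hS.isSepClosure
    haveI := IsSepClosure.sep_closed (ResidueField R) (K := ResidueField S)
    haveI : Algebra.IsSeparable (ResidueField R) (ResidueField S) := inferInstance
    refine ⟨IsSepClosed.of_exists_root _ fun p hp hi hs => ?_, Algebra.IsSeparable.of_equiv_equiv eA eT hsq⟩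
    obtain ⟨x, hx⟩ := IsSepClosed.exists_eval₂_eq_zero eT.symm.toRingHom p hi.degree_pos.ne' hs
    refine ⟨eT x, eT.symm.injective ?_⟩
    rw [map_zero, ← RingEquiv.coe_toRingHom, ← Polynomial.eval₂_at_apply]
    simpa using hx
  · intro T' _ _ f hf τ hτ
    haveI := hf
    haveI : IsLocalHom (f.comp (algebraMap R A)) := RingHom.isLocalHom_comp _ _
    obtain ⟨g, ⟨hg, hgr⟩, hu⟩ := hS.universal T' (f.comp (algebraMap R A)) (τ.comp eT.toRingHom)
      (RingHom.ext fun x => by
        obtain ⟨r, rfl⟩ := residue_surjective x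
        show τ (ResidueField.map π (ResidueField.map (algebraMap R S) (residue R r))) =
          ResidueField.map (f.comp (algebraMap R A)) (residue R r)
        simp only [ResidueField.map_residue]
        rw [← RingHom.comp_apply π, hcomp]
        exact (RingHom.congr_fun hτ (residue A (algebraMap R A r))).trans rfl)
    let g' : T →+* T' := π.liftOfSurjective hπ ⟨g, kills_ker π f hker g hg⟩
    have hg' : g'.comp π = g := RingHom.liftOfRightInverse_comp π _ _ _
    refine ⟨g', ⟨RingHom.ext fun a => ?_, fun t => ?_⟩, fun g'' ⟨hg'', hgr''⟩ => ?_⟩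
    · obtain ⟨r, rfl⟩ := hA a
      show g' (algebraMap A T (algebraMap R A r)) = _
      rw [← RingHom.comp_apply (algebraMap A T), ← hcomp, ← RingHom.comp_apply g', ← RingHom.comp_assoc, hg', hg]
      rfl
    · obtain ⟨s, rfl⟩ := hπ t
      rw [← RingHom.comp_apply g', hg', hgr]
      exact congrArg τ (ResidueField.map_residue π s)
    · have h2 : g''.comp π = g := hu _ ⟨by rw [RingHom.comp_assoc, hcomp, ← RingHom.comp_assoc, hg''],
        fun s => (hgr'' (π s)).trans (congrArg τ (ResidueField.map_residue π s).symm)⟩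
      refine RingHom.ext fun t => ?_
      obtain ⟨s, rfl⟩ := hπ t
      exact (RingHom.congr_fun h2 s).trans (RingHom.congr_fun hg' s).symm

end quotient

section count

variable {R A : Type u} [CommRing R] [IsLocalRing R] [CommRing A] [IsLocalRing A] (φ : R →+* A)

theorem numGeomBranches_of_surjective (hφ : Function.Surjective φ) :
    Brnch.numGeomBranches A =
      ⨆ i : Idx R (SeparableClosure (ResidueField R)),
        ENat.card ((RingHom.ker φ).map (algebraMap R i.L)).minimalPrimes := by
  letI : Algebra R A := φ.toAlgebra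
  haveI : IsLocalHom (algebraMap R A) := IsLocalHom.of_surjective φ hφ
  rw [← card_minimalPrimes_over_eq_iSup (RingHom.ker φ)]
  let S := StrictHenselizationRing R
  let J := (RingHom.ker φ).map (algebraMap R S)
  have hJ : J ≤ maximalIdeal S := Ideal.map_le_iff_le_comap.mpr fun a ha =>
    map_nonunit (algebraMap R S) a
      ((IsLocalRing.mem_maximalIdeal a).mpr fun hu => not_isUnit_zero (RingHom.mem_ker.mp ha ▸ hu.map φ))
  haveI : Nontrivial (S ⧸ J) := Ideal.Quotient.nontrivial_iff.mpr fun h =>
    (maximalIdeal.isMaximal S).ne_top (top_le_iff.mp (h.ge.trans hJ))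
  haveI : IsLocalRing (S ⧸ J) :=
    IsLocalRing.of_surjective' (Ideal.Quotient.mk J) Ideal.Quotient.mk_surjective
  let π := Ideal.Quotient.mk J
  haveI : IsLocalHom π := IsLocalHom.of_surjective π Ideal.Quotient.mk_surjective
  let g₀ : {g : R →+* S ⧸ J // RingHom.ker φ ≤ RingHom.ker g} := ⟨π.comp (algebraMap R S), fun a ha =>
    Ideal.Quotient.eq_zero_iff_mem.mpr (Ideal.mem_map_of_mem _ ha)⟩
  letI : Algebra A (S ⧸ J) := (φ.liftOfSurjective hφ g₀).toAlgebra
  have hcomp : π.comp (algebraMap R S) = (algebraMap A (S ⧸ J)).comp φ :=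
    (RingHom.liftOfSurjective_comp φ hφ g₀).symm
  haveI : IsLocalHom (algebraMap A (S ⧸ J)) := ⟨fun a ha => by
    obtain ⟨r, rfl⟩ := hφ a
    rw [← RingHom.comp_apply (algebraMap A (S ⧸ J)), ← hcomp] at ha
    exact (isUnit_of_map_unit (algebraMap R S) r (isUnit_of_map_unit π _ ha)).map φ⟩
  haveI := isStrictHenselization_of_surjective (R := R) (A := A) (S := S) π hφ
    Ideal.Quotient.mk_surjective Ideal.mk_ker hcomp
  obtain ⟨e⟩ := exists_algEquiv_of_isStrictHenselization A (S ⧸ J)
  rw [← card_minimalPrimes_strictHenselization A (SeparableClosure (ResidueField A)),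
    ← card_minimalPrimes_of_equiv e, card_minimalPrimes_quotient]

theorem numBranches_of_surjective (hφ : Function.Surjective φ) :
    Brnch.numBranches A =
      ⨆ i : Idx R (ResidueField R),
        ENat.card ((RingHom.ker φ).map (algebraMap R i.L)).minimalPrimes := by
  letI : Algebra R A := φ.toAlgebra
  haveI : IsLocalHom (algebraMap R A) := IsLocalHom.of_surjective φ hφ
  rw [← card_minimalPrimes_over_eq_iSup (RingHom.ker φ)]
  let S := HenselizationRing R
  let J := (RingHom.ker φ).map (algebraMap R S)
  have hJ : J ≤ maximalIdeal S := Ideal.map_le_iff_le_comap.mpr fun a ha =>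
    map_nonunit (algebraMap R S) a
      ((IsLocalRing.mem_maximalIdeal a).mpr fun hu => not_isUnit_zero (RingHom.mem_ker.mp ha ▸ hu.map φ))
  haveI : Nontrivial (S ⧸ J) := Ideal.Quotient.nontrivial_iff.mpr fun h =>
    (maximalIdeal.isMaximal S).ne_top (top_le_iff.mp (h.ge.trans hJ))
  haveI : IsLocalRing (S ⧸ J) :=
    IsLocalRing.of_surjective' (Ideal.Quotient.mk J) Ideal.Quotient.mk_surjective
  let π := Ideal.Quotient.mk J
  haveI : IsLocalHom π := IsLocalHom.of_surjective π Ideal.Quotient.mk_surjective
  let g₀ : {g : R →+* S ⧸ J // RingHom.ker φ ≤ RingHom.ker g} := ⟨π.comp (algebraMap R S), fun a ha =>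
    Ideal.Quotient.eq_zero_iff_mem.mpr (Ideal.mem_map_of_mem _ ha)⟩
  letI : Algebra A (S ⧸ J) := (φ.liftOfSurjective hφ g₀).toAlgebra
  have hcomp : π.comp (algebraMap R S) = (algebraMap A (S ⧸ J)).comp φ :=
    (RingHom.liftOfSurjective_comp φ hφ g₀).symm
  haveI : IsLocalHom (algebraMap A (S ⧸ J)) := ⟨fun a ha => by
    obtain ⟨r, rfl⟩ := hφ a
    rw [← RingHom.comp_apply (algebraMap A (S ⧸ J)), ← hcomp] at ha
    exact (isUnit_of_map_unit (algebraMap R S) r (isUnit_of_map_unit π _ ha)).map φ⟩
  haveI := isHenselization_of_surjective (R := R) (A := A) (S := S) π hφ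
    Ideal.Quotient.mk_surjective Ideal.mk_ker hcomp
  obtain ⟨e⟩ := exists_algEquiv_of_isHenselization A (S ⧸ J)
  rw [← card_minimalPrimes_henselization A, ← card_minimalPrimes_of_equiv e, card_minimalPrimes_quotient]

end count

end

end Groth.Agent.HensBranch
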