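import Groth.Agent.Henselization.Transfer
import Groth.Agent.Henselization.Properties
import Groth.Agent.Unibranch.Normal
import Groth.Agent.Unibranch.NormalStalk

/-!
# Henselizations of normal local domains are normal domains
-/

set_option autoImplicit false
set_option linter.style.haveILetI false

universe u

open IsLocalRing

namespace Groth.Agent.HensBranch

open Henselization

noncomputable section

variable {R : Type u} [CommRing R] {K : Type u} [Field K] [Algebra R K] [IsLocalRing R]
  [Algebra (ResidueField R) K] [IsScalarTower R (ResidueField R) K]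

lemma idx_normal [IsDomain R] [IsIntegrallyClosed R] (i : Idx R K) :
    IsDomain i.L ∧ IsIntegrallyClosed i.L :=
  Unibranch.isDomain_isIntegrallyClosed_of_etale (A := R) i.q

theorem hz_normal [IsDomain R] [IsIntegrallyClosed R] :
    IsDomain (Hz R K) ∧ IsIntegrallyClosed (Hz R K) := by
  classical
  haveI : NoZeroDivisors (Hz R K) := ⟨fun {x y} hxy => by
    obtain ⟨i, hi⟩ := exists_lift_finset {x, y}
    obtain ⟨a, rfl⟩ := hi x (by simp)
    obtain ⟨b, rfl⟩ := hi y (by simp)
    rw [← map_mul, ← map_zero (ι i)] at hxy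
    haveI := (idx_normal i).1
    rcases mul_eq_zero.mp (ι_injective i hxy) with rfl | rfl
    · exact Or.inl (map_zero _)
    · exact Or.inr (map_zero _)⟩
  haveI : IsDomain (Hz R K) := NoZeroDivisors.to_isDomain _
  refine ⟨‹_›, (isIntegrallyClosed_iff (FractionRing (Hz R K))).mpr fun {z} hz => ?_⟩
  obtain ⟨x, y, hy, rfl⟩ := IsFractionRing.div_surjective (A := Hz R K) z
  obtain ⟨p, hp, hpz⟩ := hz
  obtain ⟨i, hi⟩ := exists_lift_finset ({x, y} ∪ p.coeffs)
  obtain ⟨a, rfl⟩ := hi x (by simp)
  obtain ⟨b, rfl⟩ := hi y (by simp)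
  haveI := (idx_normal i).1
  haveI := (idx_normal i).2
  obtain ⟨q, hq, -, hqm⟩ := Polynomial.lifts_and_degree_eq_and_monic (f := (ι i).toRingHom) (p := p)
    (by
      rw [Polynomial.lifts_iff_coeff_lifts]
      intro n
      by_cases h0 : p.coeff n = 0
      · exact ⟨0, by rw [h0]; exact map_zero _⟩
      · exact hi _ (Finset.mem_union_right _ (Polynomial.coeff_mem_coeffs h0))) hp
  have hb : b ≠ 0 := fun h => by simp [h] at hy
  let g : FractionRing i.L →+* FractionRing (Hz R K) :=
    IsFractionRing.lift (g := (algebraMap (Hz R K) (FractionRing (Hz R K))).comp (ι i).toRingHom)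
      ((IsFractionRing.injective (Hz R K) (FractionRing (Hz R K))).comp (ι_injective i))
  have hg : ∀ w, g (algebraMap i.L (FractionRing i.L) w) =
      algebraMap (Hz R K) (FractionRing (Hz R K)) (ι i w) := fun w => IsFractionRing.lift_algebraMap _ _
  have hint : IsIntegral i.L (algebraMap i.L (FractionRing i.L) a / algebraMap i.L _ b) := by
    refine ⟨q, hqm, g.injective ?_⟩
    rw [map_zero, Polynomial.hom_eval₂, map_div₀, hg, hg]
    rw [← hq, Polynomial.eval₂_map] at hpz
    rw [show g.comp (algebraMap i.L (FractionRing i.L)) =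
      (algebraMap (Hz R K) (FractionRing (Hz R K))).comp (ι i).toRingHom from RingHom.ext hg]
    exact hpz
  obtain ⟨w, hw⟩ := IsIntegrallyClosed.algebraMap_eq_of_integral hint
  refine ⟨ι i w, ?_⟩
  have h1 := congrArg g hw
  rw [hg, map_div₀, hg, hg] at h1
  exact h1

theorem normal_iff_of_equiv {S : Type u} [CommRing S] [Algebra R S] (e : Hz R K ≃ₐ[R] S) :
    (IsDomain R ∧ IsIntegrallyClosed R) ↔ (IsDomain S ∧ IsIntegrallyClosed S) := by
  refine ⟨fun ⟨_, _⟩ => ?_, fun ⟨_, _⟩ => ?_⟩
  · obtain ⟨_, _⟩ := hz_normal (R := R) (K := K)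
    exact ⟨e.symm.toMulEquiv.isDomain _, IsIntegrallyClosed.of_equiv e.toRingEquiv⟩
  · haveI : Module.FaithfullyFlat R S := Module.FaithfullyFlat.of_linearEquiv _ _ e.symm.toLinearEquiv
    exact Unibranch.normal_of_faithfullyFlat (A := R) (B := S)

end

end Groth.Agent.HensBranch
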