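import Groth.Agent.HensBranch.Normal
import Groth.Agent.WLocalLib.Olivier

/-!
# Primes of a henselization over a prime with given normalisation
-/

set_option autoImplicit false
set_option linter.style.haveILetI false
set_option linter.unusedSectionVars false

universe u

open IsLocalRing TensorProduct

namespace Groth.Agent.HensBranch

open Henselization

noncomputable section

/-- Over a henselian local ring, primes of an integral algebra lie in a unique maximal ideal. -/
theorem eq_of_le_maximal {H N : Type u} [CommRing H] [HenselianLocalRing H] [CommRing N]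
    (ψ : H →+* N) (hψ : ψ.IsIntegral) {P M M' : Ideal N} [P.IsPrime] (hM : M.IsMaximal)
    (hM' : M'.IsMaximal) (h : P ≤ M) (h' : P ≤ M') : M = M' := by
  letI : Algebra H (N ⧸ P) := ((Ideal.Quotient.mk P).comp ψ).toAlgebra
  haveI : Algebra.IsIntegral H (N ⧸ P) := ⟨fun x => by
    obtain ⟨y, rfl⟩ := Ideal.Quotient.mk_surjective x
    obtain ⟨p, hp, h0⟩ := hψ y
    exact ⟨p, hp, (Polynomial.hom_eval₂ p ψ (Ideal.Quotient.mk P) y).symm.trans
      ((congrArg _ h0).trans (map_zero _))⟩⟩
  haveI := WLocalLib.isLocalRing_of_isIntegral H (N ⧸ P)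
  have key : ∀ (L : Ideal N), L.IsMaximal → P ≤ L →
      L = (maximalIdeal (N ⧸ P)).comap (Ideal.Quotient.mk P) := fun L hL hle => by
    refine hL.eq_of_le (Ideal.IsPrime.comap _).ne_top fun x hx => ?_
    show Ideal.Quotient.mk P x ∈ maximalIdeal (N ⧸ P)
    have : (L.map (Ideal.Quotient.mk P)) ≠ ⊤ := fun ht => hL.ne_top (by
      rw [← sup_eq_left.mpr hle, ← Ideal.comap_top (f := Ideal.Quotient.mk P), ← ht,
        Ideal.comap_map_of_surjective' _ Ideal.Quotient.mk_surjective, Ideal.mk_ker])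
    exact IsLocalRing.le_maximalIdeal this (Ideal.mem_map_of_mem _ hx)
  rw [key M hM h, key M' hM' h']

lemma eq_bot_of_comap_eq_ker {R A' : Type u} [CommRing R] [CommRing A'] [IsDomain A']
    [Algebra R A'] (hfrac : ∀ x : A', ∃ a b : R, algebraMap R A' a ≠ 0 ∧
      algebraMap R A' a * x = algebraMap R A' b)
    (I : Ideal A') (hI : I.comap (algebraMap R A') = RingHom.ker (algebraMap R A')) : I = ⊥ := by
  refine eq_bot_iff.mpr fun x hx => ?_
  obtain ⟨a, b, ha, hb⟩ := hfrac x
  have h1 : b ∈ I.comap (algebraMap R A') := by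
    rw [Ideal.mem_comap, ← hb]; exact I.mul_mem_left _ hx
  rw [hI, RingHom.mem_ker, ← hb] at h1
  exact (Ideal.mem_bot).mpr ((mul_eq_zero.mp h1).resolve_left ha)

lemma mem_map_of_one_tmul_eq_zero {R A' H : Type u} [CommRing R] [CommRing A'] [Algebra R A']
    [CommRing H] [Algebra R H] [Module.Flat R H] (z : H) (hz : (1 : A') ⊗ₜ[R] z = 0) :
    z ∈ (RingHom.ker (algebraMap R A')).map (algebraMap R H) := by
  let k := RingHom.ker (algebraMap R A')
  let g : (R ⧸ k) →ₐ[R] A' := Ideal.Quotient.liftₐ k (Algebra.ofId R A') fun a ha => ha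
  have hg : Function.Injective g := RingHom.lift_injective_of_ker_le_ideal k _ le_rfl
  have h1 : (Ideal.Quotient.mk k 1) ⊗ₜ[R] z = 0 := by
    apply Module.Flat.rTensor_preserves_injective_linearMap (M := H) g.toLinearMap hg
    rw [map_zero, LinearMap.rTensor_tmul]
    show g (Ideal.Quotient.mk k 1) ⊗ₜ[R] z = 0
    rw [map_one, map_one, hz]
  have h2 := congrArg (TensorProduct.comm R (R ⧸ k) H) h1
  rw [map_zero, TensorProduct.comm_tmul] at h2
  have h3 := congrArg (TensorProduct.tensorQuotEquivQuotSMul H k) h2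
  rw [TensorProduct.tensorQuotEquivQuotSMul_tmul_mk, map_zero, one_smul] at h3
  have h5 := (Submodule.Quotient.mk_eq_zero _).mp h3
  rwa [Ideal.smul_top_eq_map, Submodule.restrictScalars_mem] at h5

variable {R : Type u} [CommRing R] [IsLocalRing R] {K : Type u} [Field K] [Algebra R K]
  [Algebra (ResidueField R) K] [IsScalarTower R (ResidueField R) K]
  {A' : Type u} [CommRing A'] [Algebra R A']

lemma exists_stage (x : A' ⊗[R] Hz R K) :
    ∃ (i : Idx R K) (y : A' ⊗[R] i.S) (u : i.S),
      IsUnit (ι i (algebraMap i.S i.L u)) ∧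
      x * ((1 : A') ⊗ₜ[R] ι i (algebraMap i.S i.L u)) =
        Algebra.TensorProduct.map (AlgHom.id R A')
          ((ι i).comp (IsScalarTower.toAlgHom R i.S i.L)) y := by
  classical
  obtain ⟨S, hS⟩ := TensorProduct.exists_finset x
  obtain ⟨i, hi⟩ := exists_lift_finset (S.image Prod.snd)
  choose l hl using fun k : S => hi k.1.2 (Finset.mem_image_of_mem _ k.2)
  obtain ⟨u, hu⟩ := IsLocalization.exist_integer_multiples i.q.primeCompl Finset.univ l
  choose c hc using fun k : S => hu k (Finset.mem_univ k)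
  refine ⟨i, ∑ k : S, k.1.1 ⊗ₜ c k, u, (IsLocalization.map_units i.L u).map (ι i), ?_⟩
  rw [hS, Finset.sum_mul, map_sum, ← Finset.sum_coe_sort]
  refine Finset.sum_congr rfl fun k _ => ?_
  rw [Algebra.TensorProduct.tmul_mul_tmul, mul_one, Algebra.TensorProduct.map_tmul, AlgHom.id_apply,
    AlgHom.comp_apply, IsScalarTower.toAlgHom_apply, hc k, ← hl k, ← map_mul, Algebra.smul_def, mul_comm]

variable [IsDomain A'] [IsIntegrallyClosed A']

/-- Primes over the generic point inside one maximal ideal coincide. -/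
theorem eq_of_le_same (M P P' : Ideal (A' ⊗[R] Hz R K)) [M.IsPrime] [P.IsPrime] [P'.IsPrime]
    (hP : P.comap (algebraMap A' (A' ⊗[R] Hz R K)) = ⊥)
    (hP' : P'.comap (algebraMap A' (A' ⊗[R] Hz R K)) = ⊥) (h : P ≤ M) (h' : P' ≤ M) : P = P' := by
  suffices ∀ (P P' : Ideal (A' ⊗[R] Hz R K)) [P.IsPrime] [P'.IsPrime],
      P.comap (algebraMap A' (A' ⊗[R] Hz R K)) = ⊥ → P'.comap (algebraMap A' (A' ⊗[R] Hz R K)) = ⊥ →
      P ≤ M → P' ≤ M → P ≤ P' from le_antisymm (this P P' hP hP' h h') (this P' P hP' hP h' h)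
  intro P P' _ _ hP hP' h h' x hx
  obtain ⟨i, y, u, hu, hy⟩ := exists_stage x
  let g : A' ⊗[R] i.S →ₐ[A'] A' ⊗[R] Hz R K :=
    Algebra.TensorProduct.map (AlgHom.id A' A') ((ι i).comp (IsScalarTower.toAlgHom R i.S i.L))
  have hgy : g y = x * ((1 : A') ⊗ₜ[R] ι i (algebraMap i.S i.L u)) := by
    rw [hy]
    clear hy
    induction y using TensorProduct.induction_on with
    | zero => simp
    | tmul a b => rfl
    | add v w hv hw => rw [map_add, map_add, hv, hw]
  have hu' : IsUnit ((1 : A') ⊗ₜ[R] ι i (algebraMap i.S i.L u)) :=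
    hu.map (Algebra.TensorProduct.includeRight : Hz R K →ₐ[R] A' ⊗[R] Hz R K)
  let n := M.comap g.toRingHom
  haveI : IsDomain (Localization.AtPrime n) :=
    (Unibranch.isDomain_isIntegrallyClosed_of_etale (A := A') n).1
  let Q₀ : Ideal (A' ⊗[R] i.S) := RingHom.ker (algebraMap (A' ⊗[R] i.S) (Localization.AtPrime n))
  haveI : Q₀.IsPrime := RingHom.ker_isPrime _
  have key : ∀ (Q : Ideal (A' ⊗[R] Hz R K)) [Q.IsPrime],
      Q.comap (algebraMap A' (A' ⊗[R] Hz R K)) = ⊥ → Q ≤ M → Q₀ = Q.comap g.toRingHom := by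
    intro Q _ hQ hle
    have hQ₀ : Q₀ ≤ Q.comap g.toRingHom := fun z hz => by
      obtain ⟨⟨s, hs⟩, hsz⟩ := (IsLocalization.map_eq_zero_iff n.primeCompl
        (Localization.AtPrime n) z).mp hz
      have h0 : s * z ∈ Q.comap g.toRingHom := hsz ▸ zero_mem _
      exact ((Ideal.IsPrime.comap _).mem_or_mem h0).resolve_left
        fun hsQ => hs (Ideal.comap_mono hle hsQ)
    haveI : (Q.comap g.toRingHom).IsPrime := Ideal.IsPrime.comap _
    refine Algebra.QuasiFinite.eq_of_le_of_under_eq (R := A') _ _ hQ₀ ?_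
    rw [Ideal.under_def, Ideal.under_def, Ideal.comap_comap,
      show g.toRingHom.comp (algebraMap A' (A' ⊗[R] i.S)) = algebraMap A' (A' ⊗[R] Hz R K) from
        g.comp_algebraMap, hQ]
    exact le_bot_iff.mp ((Ideal.comap_mono hQ₀).trans (by
      rw [Ideal.comap_comap, show g.toRingHom.comp (algebraMap A' (A' ⊗[R] i.S)) =
        algebraMap A' (A' ⊗[R] Hz R K) from g.comp_algebraMap, hQ]))
  have hyP : y ∈ P.comap g.toRingHom := by
    show g y ∈ P
    rw [hgy]; exact P.mul_mem_right _ hx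
  rw [← key P hP h, key P' hP' h'] at hyP
  have h2 : g y ∈ P' := hyP
  rw [hgy] at h2
  exact (Ideal.mul_unit_mem_iff_mem _ hu').mp h2

variable [Algebra.IsIntegral R A']

lemma isIntegral_includeRight :
    (Algebra.TensorProduct.includeRight : Hz R K →ₐ[R] A' ⊗[R] Hz R K).toRingHom.IsIntegral := by
  intro x
  induction x using TensorProduct.induction_on with
  | zero => exact RingHom.isIntegralElem_zero _
  | tmul a z =>
    rw [show a ⊗ₜ[R] z = (a ⊗ₜ[R] (1 : Hz R K)) * ((1 : A') ⊗ₜ[R] z) by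
      rw [Algebra.TensorProduct.tmul_mul_tmul, mul_one, one_mul]]
    refine RingHom.IsIntegralElem.mul _ ?_ (RingHom.isIntegralElem_map _)
    obtain ⟨p, hp, h0⟩ := Algebra.IsIntegral.isIntegral (R := R) a
    refine ⟨p.map (algebraMap R (Hz R K)), hp.map _, ?_⟩
    rw [Polynomial.eval₂_map]
    have h1 := congrArg (Algebra.TensorProduct.includeLeft : A' →ₐ[R] A' ⊗[R] Hz R K).toRingHom h0
    rw [Polynomial.hom_eval₂, map_zero] at h1
    have hc : (Algebra.TensorProduct.includeRight : Hz R K →ₐ[R] A' ⊗[R] Hz R K).toRingHom.comp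
        (algebraMap R (Hz R K)) =
        (Algebra.TensorProduct.includeLeft : A' →ₐ[R] A' ⊗[R] Hz R K).toRingHom.comp (algebraMap R A') :=
      (AlgHom.comp_algebraMap (Algebra.TensorProduct.includeRight : Hz R K →ₐ[R] A' ⊗[R] Hz R K)).trans
        (AlgHom.comp_algebraMap (Algebra.TensorProduct.includeLeft : A' →ₐ[R] A' ⊗[R] Hz R K)).symm
    rw [hc]
    exact h1
  | add x y hx hy => exact RingHom.IsIntegralElem.add _ hx hy

variable [Algebra.IsSeparable (ResidueField R) K]

variable (R K A') in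
/-- Primes of the henselization over the kernel of `R → A'` against the residual points. -/
theorem exists_primesOver_equiv
    (hfrac : ∀ x : A', ∃ a b : R, algebraMap R A' a ≠ 0 ∧
      algebraMap R A' a * x = algebraMap R A' b) :
    Nonempty ({q : Ideal (Hz R K) // q.IsPrime ∧
        q.comap (algebraMap R (Hz R K)) = RingHom.ker (algebraMap R A')} ≃
      PrimeSpectrum (A' ⊗[R] K)) := by
  classical
  let N := A' ⊗[R] Hz R K
  let ψ : Hz R K →ₐ[R] N := Algebra.TensorProduct.includeRight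
  have hψ : ψ.toRingHom.IsIntegral := isIntegral_includeRight
  let PP := {P : Ideal N // P.IsPrime ∧ P.comap (algebraMap A' N) = ⊥}
  have halg : ψ.toRingHom.comp (algebraMap R (Hz R K)) = (algebraMap A' N).comp (algebraMap R A') :=
    ψ.comp_algebraMap.trans (IsScalarTower.algebraMap_eq R A' N)
  -- contraction to the henselization
  have e1 : Nonempty (PP ≃ {q : Ideal (Hz R K) // q.IsPrime ∧
      q.comap (algebraMap R (Hz R K)) = RingHom.ker (algebraMap R A')}) := by
    refine ⟨Equiv.ofBijective (fun P => ⟨P.1.comap ψ.toRingHom,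
      haveI := P.2.1; Ideal.IsPrime.comap _, by
        rw [Ideal.comap_comap, halg, ← Ideal.comap_comap, P.2.2, RingHom.ker_eq_comap_bot]⟩) ⟨?_, ?_⟩⟩
    · intro P P' hPP
      have hc : P.1.comap ψ.toRingHom = P'.1.comap ψ.toRingHom := congrArg Subtype.val hPP
      have key : ∀ x : N, ∃ (a : R) (z : Hz R K), algebraMap R A' a ≠ 0 ∧
          algebraMap A' N (algebraMap R A' a) * x = ψ z := by
        intro x
        induction x using TensorProduct.induction_on with
        | zero => exact ⟨1, 0, by simp, by simp⟩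
        | tmul c z =>
          obtain ⟨a, b, ha, hb⟩ := hfrac c
          refine ⟨a, b • z, ha, ?_⟩
          rw [Algebra.TensorProduct.algebraMap_apply, Algebra.algebraMap_self_apply,
            Algebra.TensorProduct.tmul_mul_tmul, one_mul, hb]
          show algebraMap R A' b ⊗ₜ[R] z = (1 : A') ⊗ₜ[R] (b • z)
          rw [Algebra.algebraMap_eq_smul_one, TensorProduct.smul_tmul]
        | add v w hv hw =>
          obtain ⟨a, z, ha, hz⟩ := hv
          obtain ⟨a', z', ha', hz'⟩ := hw
          refine ⟨a * a', a' • z + a • z', by rw [map_mul]; exact mul_ne_zero ha ha', ?_⟩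
          have e : ∀ (r : R) (s : Hz R K), ψ (r • s) = algebraMap A' N (algebraMap R A' r) * ψ s :=
            fun r s => by
              rw [map_smul, Algebra.smul_def, IsScalarTower.algebraMap_apply R A' N]
          rw [map_add, e, e, ← hz, ← hz', map_mul, map_mul]
          ring
      refine Subtype.ext (Ideal.ext fun x => ?_)
      obtain ⟨a, z, ha, hz⟩ := key x
      have hmem : ∀ Q : PP, x ∈ Q.1 ↔ z ∈ Q.1.comap ψ.toRingHom := fun Q => by
        haveI := Q.2.1
        show _ ↔ ψ z ∈ Q.1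
        rw [← hz]
        refine ⟨fun hx => Q.1.mul_mem_left _ hx, fun hx =>
          (Q.2.1.mem_or_mem hx).resolve_left fun h => ha ?_⟩
        have h2 : algebraMap R A' a ∈ Q.1.comap (algebraMap A' N) := h
        rwa [Q.2.2, Ideal.mem_bot] at h2
      rw [hmem P, hmem P', hc]
    · rintro ⟨q, hq, hqp⟩
      letI : Algebra (Hz R K) N := ψ.toRingHom.toAlgebra
      haveI : Algebra.IsIntegral (Hz R K) N := ⟨hψ⟩
      haveI := hq
      obtain ⟨P, -, hP, hPq⟩ := Ideal.exists_ideal_over_prime_of_isIntegral q (⊥ : Ideal N)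
        fun z hz => by
          refine Ideal.map_le_iff_le_comap.mpr hqp.ge (mem_map_of_one_tmul_eq_zero (A' := A') z ?_)
          exact (Ideal.mem_bot).mp hz
      have hPq' : P.comap ψ.toRingHom = q := hPq
      refine ⟨⟨P, hP, eq_bot_of_comap_eq_ker hfrac _ ?_⟩, Subtype.ext hPq'⟩
      rw [Ideal.comap_comap, ← halg, ← Ideal.comap_comap, hPq', hqp]
  -- the maximal ideals
  let π : N →ₐ[R] A' ⊗[R] K := Algebra.TensorProduct.map (AlgHom.id R A') (εH R K)
  have hπ : Function.Surjective π :=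
    LinearMap.lTensor_surjective A' (g := (εH R K).toLinearMap) εH_surjective
  have hker : ∀ M : Ideal N, M.IsMaximal → RingHom.ker π.toRingHom ≤ M := fun M hM => by
    show RingHom.ker π ≤ M
    rw [Algebra.TensorProduct.lTensor_ker (εH R K) εH_surjective, Ideal.map_le_iff_le_comap]
    haveI := hM
    exact fun z hz => (IsLocalRing.eq_maximalIdeal
      (Ideal.isMaximal_comap_of_isIntegral_of_isMaximal' ψ.toRingHom hψ M)).ge
        ((mem_maximalIdeal_iff z).mpr hz)
  have hmax : ∀ P : PrimeSpectrum (A' ⊗[R] K), P.asIdeal.IsMaximal := fun P => by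
    refine Ideal.isMaximal_of_isIntegral_of_isMaximal_comap'
      (Algebra.TensorProduct.includeRight : K →ₐ[R] A' ⊗[R] K).toRingHom ?_ P.asIdeal ?_
    · intro w
      obtain ⟨x, rfl⟩ := hπ w
      obtain ⟨p, hp, h0⟩ := hψ x
      refine ⟨p.map (εH R K).toRingHom, hp.map _, ?_⟩
      have h1 := congrArg π.toRingHom h0
      rw [Polynomial.hom_eval₂, map_zero] at h1
      rw [Polynomial.eval₂_map]
      have hc : π.toRingHom.comp ψ.toRingHom =
          (Algebra.TensorProduct.includeRight : K →ₐ[R] A' ⊗[R] K).toRingHom.comp (εH R K).toRingHom :=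
        RingHom.ext fun z => rfl
      rw [← hc]
      exact h1
    · haveI : (P.asIdeal.comap
          (Algebra.TensorProduct.includeRight : K →ₐ[R] A' ⊗[R] K).toRingHom).IsPrime :=
        Ideal.IsPrime.comap _
      rw [(Ideal.eq_bot_or_top (P.asIdeal.comap _)).resolve_right (Ideal.IsPrime.ne_top ‹_›)]
      exact Ideal.bot_isMaximal
  have hmaxc : ∀ P : PrimeSpectrum (A' ⊗[R] K), (P.asIdeal.comap π.toRingHom).IsMaximal := fun P =>
    haveI := hmax P; Ideal.comap_isMaximal_of_surjective _ hπ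
  have hex : ∀ P : PP, ∃ w : PrimeSpectrum (A' ⊗[R] K), P.1 ≤ w.asIdeal.comap π.toRingHom := fun P => by
    obtain ⟨M, hM, hle⟩ := Ideal.exists_le_maximal P.1 P.2.1.ne_top
    have hk := hker M hM
    refine ⟨⟨M.map π.toRingHom, Ideal.map_isPrime_of_surjective hπ hk⟩, ?_⟩
    show P.1 ≤ (M.map π.toRingHom).comap π.toRingHom
    rwa [Ideal.comap_map_of_surjective' π.toRingHom hπ, sup_eq_left.mpr hk]
  choose F hF using hex
  have e2 : Nonempty (PP ≃ PrimeSpectrum (A' ⊗[R] K)) := by
    refine ⟨Equiv.ofBijective F ⟨fun P P' hPP => ?_, fun w => ?_⟩⟩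
    · haveI := P.2.1; haveI := P'.2.1
      haveI := (hmaxc (F P)).isPrime
      exact Subtype.ext (eq_of_le_same _ P.1 P'.1 P.2.2 P'.2.2 (hF P) (hPP ▸ hF P'))
    · let M := w.asIdeal.comap π.toRingHom
      haveI := (hmaxc w)
      haveI : M.LiesOver (M.under A') := ⟨rfl⟩
      obtain ⟨P, hP, hPp, hPo⟩ := Ideal.exists_ideal_le_liesOver_of_le (S := N) (p := (⊥ : Ideal A'))
        (q := M.under A') M bot_le
      refine ⟨⟨P, hPp, hPo.over.symm⟩, ?_⟩
      have h1 := eq_of_le_maximal ψ.toRingHom hψ (P := P) (hmaxc w) (hmaxc (F ⟨P, hPp, hPo.over.symm⟩))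
        hP (hF ⟨P, hPp, hPo.over.symm⟩)
      exact PrimeSpectrum.ext (Ideal.comap_injective_of_surjective _ hπ h1.symm)
  exact ⟨e1.some.symm.trans e2.some⟩

end

end Groth.Agent.HensBranch
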