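import Groth.Agent.HensBranch.Core
import Groth.Agent.BranchLib.Count
import Groth.Agent.BranchLib.CplBranchCount
import Mathlib.FieldTheory.PurelyInseparable.Basic

/-!
# Minimal primes of (strict) henselizations count (geometric) branches
-/

set_option autoImplicit false
set_option linter.style.haveILetI false
set_option linter.unusedSectionVars false

universe u

open IsLocalRing TensorProduct

namespace Groth.Agent.HensBranch

open Henselization

noncomputable section

variable {R : Type u} [CommRing R] {A' : Type u} [CommRing A'] [Algebra R A'] [Algebra.IsIntegral R A']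

lemma isMaximal_of_prime_tensor {K : Type u} [Field K] [Algebra R K] (P : Ideal (A' ⊗[R] K))
    [P.IsPrime] : P.IsMaximal := by
  refine Ideal.isMaximal_of_isIntegral_of_isMaximal_comap'
    (Algebra.TensorProduct.includeRight : K →ₐ[R] A' ⊗[R] K).toRingHom ?_ P ?_
  · intro x
    induction x using TensorProduct.induction_on with
    | zero => exact RingHom.isIntegralElem_zero _
    | tmul a z =>
      rw [show a ⊗ₜ[R] z = (a ⊗ₜ[R] (1 : K)) * ((1 : A') ⊗ₜ[R] z) by
        rw [Algebra.TensorProduct.tmul_mul_tmul, mul_one, one_mul]]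
      refine RingHom.IsIntegralElem.mul _ ?_ (RingHom.isIntegralElem_map _)
      obtain ⟨p, hp, h0⟩ := Algebra.IsIntegral.isIntegral (R := R) a
      refine ⟨p.map (algebraMap R K), hp.map _, ?_⟩
      rw [Polynomial.eval₂_map]
      have h1 := congrArg (Algebra.TensorProduct.includeLeft : A' →ₐ[R] A' ⊗[R] K).toRingHom h0
      rw [Polynomial.hom_eval₂, map_zero] at h1
      have hc : (Algebra.TensorProduct.includeRight : K →ₐ[R] A' ⊗[R] K).toRingHom.comp
          (algebraMap R K) =
          (Algebra.TensorProduct.includeLeft : A' →ₐ[R] A' ⊗[R] K).toRingHom.comp (algebraMap R A') :=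
        (AlgHom.comp_algebraMap (Algebra.TensorProduct.includeRight : K →ₐ[R] A' ⊗[R] K)).trans
          (AlgHom.comp_algebraMap (Algebra.TensorProduct.includeLeft : A' →ₐ[R] A' ⊗[R] K)).symm
      rw [hc]
      exact h1
    | add x y hx hy => exact RingHom.IsIntegralElem.add _ hx hy
  · haveI : (P.comap (Algebra.TensorProduct.includeRight : K →ₐ[R] A' ⊗[R] K).toRingHom).IsPrime :=
      Ideal.IsPrime.comap _
    rw [(Ideal.eq_bot_or_top (P.comap _)).resolve_right (Ideal.IsPrime.ne_top ‹_›)]
    exact Ideal.bot_isMaximal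

variable [IsLocalRing R]

/-- The fibre over the closed point. -/
theorem exists_primeSpectrum_residue_equiv :
    Nonempty (PrimeSpectrum (A' ⊗[R] ResidueField R) ≃ MaximalSpectrum A') := by
  let inc := (Algebra.TensorProduct.includeLeft : A' →ₐ[R] A' ⊗[R] ResidueField R).toRingHom
  have hinc : Function.Surjective inc := fun x => by
    induction x using TensorProduct.induction_on with
    | zero => exact ⟨0, map_zero _⟩
    | tmul a z =>
      obtain ⟨r, rfl⟩ := residue_surjective z
      refine ⟨r • a, ?_⟩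
      show (r • a) ⊗ₜ[R] (1 : ResidueField R) = _
      rw [TensorProduct.smul_tmul, Algebra.smul_def, mul_one]
      rfl
    | add v w hv hw =>
      obtain ⟨a, ha⟩ := hv; obtain ⟨b, hb⟩ := hw
      exact ⟨a + b, by rw [map_add, ha, hb]⟩
  refine ⟨Equiv.ofBijective (fun P => ⟨P.asIdeal.comap inc,
    haveI := isMaximal_of_prime_tensor P.asIdeal
    Ideal.comap_isMaximal_of_surjective _ hinc⟩) ⟨fun P P' h => ?_, fun M => ?_⟩⟩
  · exact PrimeSpectrum.ext (Ideal.comap_injective_of_surjective _ hinc (congrArg MaximalSpectrum.asIdeal h))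
  · haveI := M.isMaximal
    have hm : maximalIdeal R ≤ M.asIdeal.comap (algebraMap R A') :=
      (IsLocalRing.eq_maximalIdeal (Ideal.isMaximal_comap_of_isIntegral_of_isMaximal (R := R) M.asIdeal)).ge
    let r₀ : ResidueField R →ₐ[R] A' ⧸ M.asIdeal :=
      Ideal.Quotient.liftₐ (maximalIdeal R) (Algebra.ofId R (A' ⧸ M.asIdeal)) fun a ha =>
        (Ideal.Quotient.eq_zero_iff_mem (I := M.asIdeal)).mpr (hm ha)
    let Φ : A' ⊗[R] ResidueField R →ₐ[R] A' ⧸ M.asIdeal :=
      Algebra.TensorProduct.lift (Ideal.Quotient.mkₐ R M.asIdeal) r₀ fun _ _ => Commute.all _ _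
    have hΦ : Φ.toRingHom.comp inc = Ideal.Quotient.mk M.asIdeal := RingHom.ext fun a => by
      show Φ (a ⊗ₜ[R] 1) = _
      rw [Algebra.TensorProduct.lift_tmul, map_one, mul_one]
      rfl
    refine ⟨⟨RingHom.ker Φ.toRingHom, RingHom.ker_isPrime _⟩, MaximalSpectrum.ext ?_⟩
    show (RingHom.ker Φ.toRingHom).comap inc = M.asIdeal
    rw [RingHom.comap_ker, hΦ, Ideal.mk_ker]

/-- Points in an algebraically closed field. -/
theorem exists_primeSpectrum_hom_equiv {K C : Type u} [Field K] [Algebra R K] [IsSepClosed K]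
    [Field C] [IsAlgClosed C] (j : K →+* C) :
    Nonempty (PrimeSpectrum (A' ⊗[R] K) ≃
      {τ : A' →+* C // τ.comp (algebraMap R A') = j.comp (algebraMap R K)}) := by
  letI : Algebra R C := (j.comp (algebraMap R K)).toAlgebra
  let jA : K →ₐ[R] C := ⟨j, fun r => rfl⟩
  let T := {τ : A' →+* C // τ.comp (algebraMap R A') = j.comp (algebraMap R K)}
  let L : T → (A' ⊗[R] K →ₐ[R] C) := fun τ =>
    Algebra.TensorProduct.lift ⟨τ.1, fun r => RingHom.congr_fun τ.2 r⟩ jA fun _ _ => Commute.all _ _
  have hL1 : ∀ τ a, L τ (a ⊗ₜ[R] 1) = τ.1 a := fun τ a => by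
    rw [Algebra.TensorProduct.lift_tmul, map_one, mul_one]; rfl
  have hL2 : ∀ τ z, L τ ((1 : A') ⊗ₜ[R] z) = j z := fun τ z => by
    rw [Algebra.TensorProduct.lift_tmul, map_one, one_mul]; rfl
  refine ⟨(Equiv.ofBijective (fun τ : T =>
    (⟨RingHom.ker (L τ).toRingHom, RingHom.ker_isPrime _⟩ : PrimeSpectrum (A' ⊗[R] K)))
      ⟨fun τ τ' h => ?_, fun P => ?_⟩).symm⟩
  · have h' : RingHom.ker (L τ).toRingHom = RingHom.ker (L τ').toRingHom :=
      congrArg PrimeSpectrum.asIdeal h
    let P := RingHom.ker (L τ).toRingHom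
    haveI : P.IsPrime := RingHom.ker_isPrime _
    haveI := isMaximal_of_prime_tensor P
    letI := Ideal.Quotient.field P
    let i := (Ideal.Quotient.mk P).comp (Algebra.TensorProduct.includeRight : K →ₐ[R] A' ⊗[R] K).toRingHom
    letI : Algebra K ((A' ⊗[R] K) ⧸ P) := i.toAlgebra
    letI : Algebra K C := j.toAlgebra
    haveI : Algebra.IsAlgebraic K ((A' ⊗[R] K) ⧸ P) := by
      haveI : Algebra.IsIntegral K ((A' ⊗[R] K) ⧸ P) := ⟨fun x => by
        obtain ⟨y, rfl⟩ := Ideal.Quotient.mk_surjective x
        induction y using TensorProduct.induction_on with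
        | zero => rw [map_zero]; exact isIntegral_zero
        | tmul a z =>
          rw [show a ⊗ₜ[R] z = (a ⊗ₜ[R] (1 : K)) * ((1 : A') ⊗ₜ[R] z) by
            rw [Algebra.TensorProduct.tmul_mul_tmul, mul_one, one_mul], map_mul]
          refine IsIntegral.mul ?_ (isIntegral_algebraMap (R := K) (x := z))
          obtain ⟨p, hp, h0⟩ := Algebra.IsIntegral.isIntegral (R := R) a
          refine ⟨p.map (algebraMap R K), hp.map _, ?_⟩
          rw [Polynomial.eval₂_map]
          have h1 := congrArg ((Ideal.Quotient.mk P).comp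
            (Algebra.TensorProduct.includeLeft : A' →ₐ[R] A' ⊗[R] K).toRingHom) h0
          rw [Polynomial.hom_eval₂, map_zero] at h1
          have hc : (algebraMap K ((A' ⊗[R] K) ⧸ P)).comp (algebraMap R K) =
              ((Ideal.Quotient.mk P).comp (Algebra.TensorProduct.includeLeft :
                A' →ₐ[R] A' ⊗[R] K).toRingHom).comp (algebraMap R A') := by
            show ((Ideal.Quotient.mk P).comp _).comp _ = _
            rw [RingHom.comp_assoc, RingHom.comp_assoc]
            exact congrArg (Ideal.Quotient.mk P).comp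
              ((AlgHom.comp_algebraMap (Algebra.TensorProduct.includeRight : K →ₐ[R] A' ⊗[R] K)).trans
              (AlgHom.comp_algebraMap
                (Algebra.TensorProduct.includeLeft : A' →ₐ[R] A' ⊗[R] K)).symm)
          rw [hc]
          exact h1
        | add v w hv hw => rw [map_add]; exact hv.add hw⟩
      exact Algebra.IsIntegral.isAlgebraic
    let l : ∀ σ : T, P ≤ RingHom.ker (L σ).toRingHom → ((A' ⊗[R] K) ⧸ P →ₐ[K] C) := fun σ hσ =>
      { toRingHom := Ideal.Quotient.lift P (L σ).toRingHom fun a ha => hσ ha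
        commutes' := fun z => hL2 σ z }
    have he : l τ le_rfl = l τ' h'.le := Subsingleton.elim _ _
    refine Subtype.ext (RingHom.ext fun a => ?_)
    rw [← hL1 τ, ← hL1 τ']
    exact AlgHom.congr_fun he (Ideal.Quotient.mk P (a ⊗ₜ[R] 1))
  · haveI := isMaximal_of_prime_tensor P.asIdeal
    letI := Ideal.Quotient.field P.asIdeal
    let i := (Ideal.Quotient.mk P.asIdeal).comp
      (Algebra.TensorProduct.includeRight : K →ₐ[R] A' ⊗[R] K).toRingHom
    obtain ⟨σ, hσ⟩ := BranchLib.exists_extension (Field.toIsField K) i (fun x => by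
      obtain ⟨y, rfl⟩ := Ideal.Quotient.mk_surjective x
      induction y using TensorProduct.induction_on with
      | zero => rw [map_zero]; exact RingHom.isIntegralElem_zero _
      | tmul a z =>
        rw [show a ⊗ₜ[R] z = (a ⊗ₜ[R] (1 : K)) * ((1 : A') ⊗ₜ[R] z) by
          rw [Algebra.TensorProduct.tmul_mul_tmul, mul_one, one_mul], map_mul]
        refine RingHom.IsIntegralElem.mul _ ?_ (RingHom.isIntegralElem_map i (x := z))
        obtain ⟨p, hp, h0⟩ := Algebra.IsIntegral.isIntegral (R := R) a
        refine ⟨p.map (algebraMap R K), hp.map _, ?_⟩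
        rw [Polynomial.eval₂_map]
        have h1 := congrArg ((Ideal.Quotient.mk P.asIdeal).comp
          (Algebra.TensorProduct.includeLeft : A' →ₐ[R] A' ⊗[R] K).toRingHom) h0
        rw [Polynomial.hom_eval₂, map_zero] at h1
        have hc : i.comp (algebraMap R K) =
            ((Ideal.Quotient.mk P.asIdeal).comp (Algebra.TensorProduct.includeLeft :
              A' →ₐ[R] A' ⊗[R] K).toRingHom).comp (algebraMap R A') := by
          show ((Ideal.Quotient.mk P.asIdeal).comp _).comp _ = _
          rw [RingHom.comp_assoc, RingHom.comp_assoc]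
          exact congrArg (Ideal.Quotient.mk P.asIdeal).comp
            ((AlgHom.comp_algebraMap (Algebra.TensorProduct.includeRight : K →ₐ[R] A' ⊗[R] K)).trans
            (AlgHom.comp_algebraMap
              (Algebra.TensorProduct.includeLeft : A' →ₐ[R] A' ⊗[R] K)).symm)
        rw [hc]
        exact h1
      | add v w hv hw => rw [map_add]; exact RingHom.IsIntegralElem.add _ hv hw) j
    let τ : T := ⟨(σ.comp (Ideal.Quotient.mk P.asIdeal)).comp
        (Algebra.TensorProduct.includeLeft : A' →ₐ[R] A' ⊗[R] K).toRingHom, by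
      rw [RingHom.comp_assoc, ← hσ, RingHom.comp_assoc, RingHom.comp_assoc, RingHom.comp_assoc]
      exact congrArg σ.comp (congrArg (Ideal.Quotient.mk P.asIdeal).comp
        ((AlgHom.comp_algebraMap (Algebra.TensorProduct.includeLeft : A' →ₐ[R] A' ⊗[R] K)).trans
          (AlgHom.comp_algebraMap
            (Algebra.TensorProduct.includeRight : K →ₐ[R] A' ⊗[R] K)).symm))⟩
    refine ⟨τ, PrimeSpectrum.ext ?_⟩
    have he : (L τ).toRingHom = σ.comp (Ideal.Quotient.mk P.asIdeal) := by
      refine RingHom.ext fun x => ?_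
      induction x using TensorProduct.induction_on with
      | zero => rw [map_zero, map_zero]
      | tmul a z =>
        rw [show a ⊗ₜ[R] z = (a ⊗ₜ[R] (1 : K)) * ((1 : A') ⊗ₜ[R] z) by
          rw [Algebra.TensorProduct.tmul_mul_tmul, mul_one, one_mul], map_mul, map_mul]
        exact congrArg₂ (· * ·) (hL1 τ a) ((hL2 τ z).trans (RingHom.congr_fun hσ z).symm)
      | add v w hv hw => rw [map_add, map_add, hv, hw]
    show RingHom.ker (L τ).toRingHom = P.asIdeal
    rw [he, RingHom.ker_comp_of_injective _ (RingHom.injective _), Ideal.mk_ker]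

end

end Groth.Agent.HensBranch
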