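import Groth.Agent.HensBranch.EtaleNbhd
import Groth.Agent.HensBranch.QuotStage
import Groth.Agent.FlatLocus.FibreStalk

/-!
# Branches of fibres through etale neighbourhoods
-/

set_option autoImplicit false
set_option linter.style.haveILetI false
set_option linter.unusedSectionVars false
set_option backward.isDefEq.respectTransparency false
set_option backward.defeqAttrib.useBackward true

universe u

open CategoryTheory CategoryTheory.Limits AlgebraicGeometry IsLocalRing

namespace Groth.Agent.HensBranch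

open Henselization

noncomputable section

/-- An etale neighbourhood with a point is a stage. -/
theorem exists_idx_of_nbhd' {U X : Scheme.{u}} (g : U ⟶ X) [Etale g] (u : U) {K : Type u} [Field K]
    [Algebra (X.presheaf.stalk (g u)) K] (σ₀ : U.presheaf.stalk u →+* K)
    (hσc : σ₀.comp (g.stalkMap u).hom = algebraMap (X.presheaf.stalk (g u)) K)
    (hσ : ∀ z, σ₀ z = 0 ↔ z ∈ maximalIdeal (U.presheaf.stalk u)) :
    ∃ (j : Idx (X.presheaf.stalk (g u)) K) (e : U.presheaf.stalk u ≃+* j.L),
      ∀ r, e (g.stalkMap u r) = algebraMap (X.presheaf.stalk (g u)) j.L r := by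
  obtain ⟨_, ⟨W : X.Opens, hW, rfl⟩, hxW, -⟩ :=
    X.isBasis_affineOpens.exists_subset_of_mem_open (Set.mem_univ (g u)) isOpen_univ
  obtain ⟨_, ⟨V : U.Opens, hV, rfl⟩, huV, hVW⟩ :=
    U.isBasis_affineOpens.exists_subset_of_mem_open (a := u) (u := ↑(g ⁻¹ᵁ W)) hxW (g ⁻¹ᵁ W).2
  have het := g.etale_appLE hW hV hVW
  algebraize [(g.appLE W V hVW).hom]
  letI : Algebra Γ(U, V) (U.presheaf.stalk u) :=
    TopCat.Presheaf.algebra_section_stalk U.presheaf ⟨u, huV⟩
  letI : Algebra Γ(X, W) (X.presheaf.stalk (g u)) :=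
    TopCat.Presheaf.algebra_section_stalk X.presheaf ⟨g u, hxW⟩
  haveI : IsLocalization.AtPrime (U.presheaf.stalk u) (hV.primeIdealOf ⟨u, huV⟩).asIdeal :=
    hV.isLocalization_stalk ⟨u, huV⟩
  haveI : IsLocalization.AtPrime (X.presheaf.stalk (g u)) (hW.primeIdealOf ⟨g u, hxW⟩).asIdeal :=
    hW.isLocalization_stalk ⟨g u, hxW⟩
  letI : Algebra (X.presheaf.stalk (g u)) (U.presheaf.stalk u) := (g.stalkMap u).hom.toAlgebra
  letI : Algebra Γ(X, W) (U.presheaf.stalk u) :=
    ((U.presheaf.germ V u huV).hom.comp (g.appLE W V hVW).hom).toAlgebra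
  haveI : IsScalarTower Γ(X, W) Γ(U, V) (U.presheaf.stalk u) := .of_algebraMap_eq fun _ => rfl
  haveI : IsScalarTower Γ(X, W) (X.presheaf.stalk (g u)) (U.presheaf.stalk u) :=
    .of_algebraMap_eq fun r => by
      show U.presheaf.germ V u huV (g.appLE W V hVW r) =
        g.stalkMap u (X.presheaf.germ W (g u) hxW r)
      rw [Scheme.Hom.germ_stalkMap_apply, Scheme.Hom.appLE, CommRingCat.comp_apply,
        U.presheaf.germ_res_apply]
  let σ : U.presheaf.stalk u →ₐ[X.presheaf.stalk (g u)] K :=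
    { toRingHom := σ₀, commutes' := fun r => RingHom.congr_fun hσc r }
  obtain ⟨j, ⟨e⟩⟩ := exists_idx_of_localization' (C := Γ(X, W)) (R := X.presheaf.stalk (g u))
    (hW.primeIdealOf ⟨g u, hxW⟩).asIdeal (B := Γ(U, V)) (L := U.presheaf.stalk u)
    (hV.primeIdealOf ⟨u, huV⟩).asIdeal σ hσ
  exact ⟨j, e.toRingEquiv, e.commutes⟩

/-- A stage is an etale neighbourhood. -/
theorem exists_nbhd_of_idx' {X : Scheme.{u}} (x : X) {K : Type u} [Field K]
    [Algebra (X.presheaf.stalk x) K] [Algebra (ResidueField (X.presheaf.stalk x)) K]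
    [IsScalarTower (X.presheaf.stalk x) (ResidueField (X.presheaf.stalk x)) K]
    (i : Idx (X.presheaf.stalk x) K) :
    ∃ (U : Scheme.{u}) (g : U ⟶ X) (u : U) (hux : g u = x), Etale g ∧
      (Function.Surjective (algebraMap (X.presheaf.stalk x) K) →
        Function.Bijective (g.residueFieldMap u)) ∧
      ∃ e : U.presheaf.stalk u ≃+* i.L, ∀ r,
        e ((X.presheaf.stalkSpecializes (specializes_of_eq hux) ≫ g.stalkMap u).hom r) =
          algebraMap (X.presheaf.stalk x) i.L r := by
  obtain ⟨_, ⟨W : X.Opens, hW, rfl⟩, hxW, -⟩ :=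
    X.isBasis_affineOpens.exists_subset_of_mem_open (Set.mem_univ x) isOpen_univ
  let C : Type u := Γ(X, W)
  letI : Algebra C (X.presheaf.stalk x) :=
    TopCat.Presheaf.algebra_section_stalk X.presheaf ⟨x, hxW⟩
  let p := (hW.primeIdealOf ⟨x, hxW⟩).asIdeal
  haveI : IsLocalization.AtPrime (X.presheaf.stalk x) p := hW.isLocalization_stalk ⟨x, hxW⟩
  obtain ⟨B, _, _, _, q, _, χ, hχC, hq, e, he⟩ := exists_etale_model' (C := C) (R := X.presheaf.stalk x) p i
  let φ := algebraMap C B
  let g₀ : Spec (CommRingCat.of B) ⟶ Spec (CommRingCat.of C) := Spec.map (CommRingCat.ofHom φ)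
  haveI : Etale g₀ := by
    rw [HasRingHomProperty.Spec_iff (P := @Etale)]
    exact RingHom.etale_algebraMap.mpr inferInstance
  let o : Spec (CommRingCat.of C) ⟶ X := hW.fromSpec
  haveI : IsOpenImmersion o := hW.isOpenImmersion_fromSpec
  let u : Spec (CommRingCat.of B) := ⟨q, inferInstance⟩
  have hqp : q.comap φ = p := by
    rw [hq, Ideal.comap_comap, hχC, ← Ideal.comap_comap,
      show (maximalIdeal i.L).comap (algebraMap (X.presheaf.stalk x) i.L) =
        maximalIdeal (X.presheaf.stalk x) from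
          ((IsLocalRing.local_hom_TFAE (algebraMap (X.presheaf.stalk x) i.L)).out 0 4 rfl rfl).mp
            (inferInstance : IsLocalHom (algebraMap (X.presheaf.stalk x) i.L))]
    exact IsLocalization.AtPrime.comap_maximalIdeal (X.presheaf.stalk x) p
  have hu0 : g₀ u = hW.primeIdealOf ⟨x, hxW⟩ := PrimeSpectrum.ext hqp
  have hux : (g₀ ≫ o) u = x := by
    rw [Scheme.Hom.comp_apply, hu0]
    exact hW.fromSpec_primeIdealOf _
  refine ⟨_, g₀ ≫ o, u, hux, inferInstance, fun hK => ?_, ?_⟩
  · refine ⟨RingHom.injective _, ?_⟩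
    have hev : ∀ b : B, ∃ z, g₀.residueFieldMap u z = UnivHomeo.ev u b := by
      intro b
      obtain ⟨r, hr⟩ := hK (i.ε (χ b))
      obtain ⟨⟨c, d⟩, hcd⟩ := IsLocalization.surj p.primeCompl r
      have hmem : φ d * b - φ c ∈ q := by
        rw [hq, Ideal.mem_comap, Idx.mem_maximalIdeal_iff, map_sub, map_mul, map_sub, map_mul]
        have h1 : ∀ c : C, i.ε (χ (φ c)) = algebraMap _ K (algebraMap C (X.presheaf.stalk x) c) :=
          fun c => by
            rw [show χ (φ c) = algebraMap (X.presheaf.stalk x) i.L (algebraMap C (X.presheaf.stalk x) c) from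
              RingHom.congr_fun hχC c,
              AlgHom.commutes]
        rw [h1, h1, ← hr, ← map_mul, ← map_sub, mul_comm, hcd, sub_self, map_zero]
      have hd : UnivHomeo.ev (g₀ u) (d : C) ≠ 0 := fun h0 => d.2 (by
        have h1 := (UnivHomeo.ev_eq_zero _ _).mp h0
        rwa [hu0] at h1)
      refine ⟨UnivHomeo.ev (g₀ u) c / UnivHomeo.ev (g₀ u) (d : C), ?_⟩
      rw [map_div₀, UnivHomeo.residueFieldMap_ev φ u, UnivHomeo.residueFieldMap_ev φ u,
        div_eq_iff (fun h0 => hd ((g₀.residueFieldMap u).hom.injective (by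
          rw [map_zero, ← h0]; exact UnivHomeo.residueFieldMap_ev φ u d))),
        ← map_mul, eq_comm, ← sub_eq_zero, ← map_sub, UnivHomeo.ev_eq_zero, mul_comm]
      exact hmem
    intro z
    obtain ⟨b, s, hs, rfl⟩ := UnivHomeo.exists_div_ev u z
    obtain ⟨zb, hb⟩ := hev b
    obtain ⟨zs, hs'⟩ := hev s
    obtain ⟨w, hw⟩ := (ConcreteCategory.bijective_of_isIso (o.residueFieldMap (g₀ u))).2 (zb / zs)
    refine ⟨w, ?_⟩
    rw [Scheme.residueFieldMap_comp]
    show g₀.residueFieldMap u (o.residueFieldMap (g₀ u) w) = _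
    rw [hw, map_div₀, hb, hs']
  · let e' := (Spec.stalkIso (CommRingCat.of B) u).commRingCatIsoToRingEquiv.trans e
    refine ⟨e', fun r => RingHom.congr_fun (f := e'.toRingHom.comp
      (X.presheaf.stalkSpecializes (specializes_of_eq hux) ≫ (g₀ ≫ o).stalkMap u).hom) ?_ r⟩
    refine IsLocalization.ringHom_ext p.primeCompl (RingHom.ext fun c => ?_)
    have hgerm : X.presheaf.germ W x hxW ≫ X.presheaf.stalkSpecializes (specializes_of_eq hux) ≫
        (g₀ ≫ o).stalkMap u = CommRingCat.ofHom φ ≫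
          (Scheme.ΓSpecIso (CommRingCat.of B)).inv ≫ (Spec (CommRingCat.of B)).presheaf.germ ⊤ u trivial := by
      refine Spec.map_injective ((cancel_mono o).mp ?_)
      rw [Spec.map_comp, Spec.map_comp, Category.assoc, Category.assoc]
      have hx : Spec.map (X.presheaf.germ W x hxW) ≫ o = X.fromSpecStalk x := by
        rw [← hW.fromSpecStalk_eq_fromSpecStalk hxW]
        rfl
      rw [hx, Scheme.SpecMap_stalkSpecializes_fromSpecStalk, Scheme.SpecMap_stalkMap_fromSpecStalk,
        Spec.fromSpecStalk_eq, Spec.map_comp _ (_ ≫ _), Category.assoc]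
    show e ((Spec.stalkIso (CommRingCat.of B) u).hom
      ((X.presheaf.germ W x hxW ≫ X.presheaf.stalkSpecializes (specializes_of_eq hux) ≫
        (g₀ ≫ o).stalkMap u) c)) = _
    rw [hgerm, ← Spec.algebraMap_stalkIso_inv]
    simp only [CommRingCat.comp_apply, CommRingCat.hom_ofHom, Iso.inv_hom_id_apply]
    refine Eq.trans (congrArg e ?_) ((he _).trans (RingHom.congr_fun hχC c))
    exact CategoryTheory.Iso.inv_hom_id_apply (Spec.stalkIso (CommRingCat.of B) u) _

/-- Transport of an ideal's minimal primes along a ring isomorphism over a map. -/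
theorem card_minimalPrimes_map_congr {R L L' : Type u} [CommRing R] [CommRing L] [CommRing L']
    (e : L ≃+* L') (a : R →+* L) (a' : R →+* L') (h : ∀ r, e (a r) = a' r) (I : Ideal R) :
    ENat.card (I.map a).minimalPrimes = ENat.card (I.map a').minimalPrimes := by
  rw [← card_minimalPrimes_quotient (I.map a), ← card_minimalPrimes_quotient (I.map a')]
  refine card_minimalPrimes_congr (Ideal.quotientEquiv (I.map a) (I.map a') e ?_)
  rw [Ideal.map_map]
  exact congrArg (fun f : R →+* L' => I.map f) (RingHom.ext fun r => (h r).symm)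

/-- The maximal ideal of the image point, in the local ring. -/
def fibreIdeal {X S : Scheme.{u}} (f : X ⟶ S) (x : X) : Ideal (X.presheaf.stalk x) :=
  (maximalIdeal (S.presheaf.stalk (f x))).map (f.stalkMap x).hom

theorem fibreIdeal_comp {U X S : Scheme.{u}} (g : U ⟶ X) (f : X ⟶ S) (u : U) :
    fibreIdeal (g ≫ f) u = (fibreIdeal f (g u)).map (g.stalkMap u).hom := by
  rw [fibreIdeal, fibreIdeal, Ideal.map_map, Scheme.Hom.stalkMap_comp]
  rfl

/-- Components of a fibre through a point. -/
theorem encard_fibre_components {U S : Scheme.{u}} (h : U ⟶ S) (u : U) (s : S) (hs : h u = s) :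
    {Z : Set ↑(h.fiber s) | Z ∈ irreducibleComponents ↑(h.fiber s) ∧
      ∃ u' ∈ Z, h.fiberι s u' = u}.encard = ENat.card (fibreIdeal h u).minimalPrimes := by
  obtain ⟨z, rfl⟩ : u ∈ Set.range (h.fiberι s) := by rw [Scheme.Hom.range_fiberι]; exact hs
  have hset : {Z : Set ↑(h.fiber s) | Z ∈ irreducibleComponents ↑(h.fiber s) ∧
      ∃ u' ∈ Z, h.fiberι s u' = h.fiberι s z} =
      {Z : Set ↑(h.fiber s) | Z ∈ irreducibleComponents ↑(h.fiber s) ∧ z ∈ Z} := by
    ext Z
    refine and_congr_right fun _ => ⟨fun ⟨w, hw, e⟩ => ?_, fun hz => ⟨z, hz, rfl⟩⟩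
    rwa [(h.fiberι s).isEmbedding.injective e] at hw
  rw [hset, encard_components_eq,
    ← card_minimalPrimes_of_surjective _ (FlatLocus.fiberι_stalkMap_surjective h s z),
    FlatLocus.ker_fiberι_stalkMap]
  rfl

theorem fibre_stalk_spec {X S : Scheme.{u}} (f : X ⟶ S) (x : X) :
    ∃ φ : X.presheaf.stalk x →+* (f.fiber (f x)).presheaf.stalk (f.asFiber x),
      Function.Surjective φ ∧ RingHom.ker φ = fibreIdeal f x := by
  have key : ∀ z : f.fiber (f x), f.fiberι (f x) z = x →
      ∃ φ : X.presheaf.stalk x →+* (f.fiber (f x)).presheaf.stalk z,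
        Function.Surjective φ ∧ RingHom.ker φ = fibreIdeal f x := by
    intro z hz
    generalize hs : f x = s at z hz ⊢
    subst hz
    exact ⟨_, FlatLocus.fiberι_stalkMap_surjective f s z, FlatLocus.ker_fiberι_stalkMap f s z⟩
  exact key _ (f.fiberι_asFiber x)

theorem numGeomBranchesAt_fibre_eq_iSup {X S : Scheme.{u}} (f : X ⟶ S) (x : X) :
    Brnch.numGeomBranchesAt (f.fiber (f x)) (f.asFiber x) =
      ⨆ (U : Scheme.{u}) (g : U ⟶ X) (u : U) (_ : Etale g ∧ g u = x),
      {Z : Set ↑((g ≫ f).fiber (f x)) | Z ∈ irreducibleComponents ↑((g ≫ f).fiber (f x)) ∧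
        ∃ u' ∈ Z, (g ≫ f).fiberι (f x) u' = u}.encard := by
  obtain ⟨φ, hφ, hker⟩ := fibre_stalk_spec f x
  rw [Brnch.numGeomBranchesAt, numGeomBranches_of_surjective φ hφ, hker]
  refine le_antisymm (iSup_le fun i => ?_) (iSup_le fun U => iSup_le fun g => iSup_le fun u => iSup_le fun h => ?_)
  · obtain ⟨U, g, u, hux, het, -, e, he⟩ := exists_nbhd_of_idx' x i
    refine le_iSup_of_le U (le_iSup_of_le g (le_iSup_of_le u (le_iSup_of_le ⟨het, hux⟩ ?_)))
    subst hux
    rw [encard_fibre_components (g ≫ f) u _ (Scheme.Hom.comp_apply g f u), fibreIdeal_comp,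
      card_minimalPrimes_map_congr e _ _ (fun r => ?_) (fibreIdeal f (g u))]
    simpa using he r
  · obtain ⟨het, rfl⟩ := h
    haveI := het
    let A := X.presheaf.stalk (g u)
    letI : Algebra A (U.presheaf.stalk u) := (g.stalkMap u).hom.toAlgebra
    haveI : IsLocalHom (algebraMap A (U.presheaf.stalk u)) := g.toLRSHom.prop u
    haveI : Algebra.FormallyUnramified A (U.presheaf.stalk u) := FormallyUnramified.stalkMap g u
    haveI : Algebra.EssFiniteType A (U.presheaf.stalk u) := LocallyOfFiniteType.stalkMap g u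
    let σ : ResidueField (U.presheaf.stalk u) →ₐ[ResidueField A]
        SeparableClosure (ResidueField A) := IsSepClosed.lift
    obtain ⟨j, e, he⟩ := exists_idx_of_nbhd' g u (K := SeparableClosure (ResidueField A))
      (σ.toRingHom.comp (U.residue u).hom)
      (RingHom.ext fun r => (σ.commutes (residue A r)).trans
        (IsScalarTower.algebraMap_apply A (ResidueField A) (SeparableClosure (ResidueField A)) r).symm)
      (fun z => (map_eq_zero_iff σ.toRingHom σ.toRingHom.injective).trans (IsLocalRing.residue_eq_zero_iff z))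
    rw [encard_fibre_components (g ≫ f) u _ (Scheme.Hom.comp_apply g f u), fibreIdeal_comp,
      card_minimalPrimes_map_congr e _ _ he]
    exact le_iSup (fun i : Idx A (SeparableClosure (ResidueField A)) =>
      ENat.card ((fibreIdeal f (g u)).map (algebraMap A i.L)).minimalPrimes) j

theorem numBranchesAt_fibre_eq_iSup {X S : Scheme.{u}} (f : X ⟶ S) (x : X) :
    Brnch.numBranchesAt (f.fiber (f x)) (f.asFiber x) =
      ⨆ (U : Scheme.{u}) (g : U ⟶ X) (u : U) (_ : Hens2.IsEtaleNbhd g u x),
      {Z : Set ↑((g ≫ f).fiber (f x)) | Z ∈ irreducibleComponents ↑((g ≫ f).fiber (f x)) ∧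
        ∃ u' ∈ Z, (g ≫ f).fiberι (f x) u' = u}.encard := by
  obtain ⟨φ, hφ, hker⟩ := fibre_stalk_spec f x
  rw [Brnch.numBranchesAt, numBranches_of_surjective φ hφ, hker]
  refine le_antisymm (iSup_le fun i => ?_) (iSup_le fun U => iSup_le fun g => iSup_le fun u => iSup_le fun h => ?_)
  · obtain ⟨U, g, u, hux, het, hres, e, he⟩ := exists_nbhd_of_idx' x i
    refine le_iSup_of_le U (le_iSup_of_le g (le_iSup_of_le u (le_iSup_of_le
      ⟨het, hux, hres IsLocalRing.residue_surjective⟩ ?_)))
    subst hux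
    rw [encard_fibre_components (g ≫ f) u _ (Scheme.Hom.comp_apply g f u), fibreIdeal_comp,
      card_minimalPrimes_map_congr e _ _ (fun r => ?_) (fibreIdeal f (g u))]
    simpa using he r
  · obtain ⟨het, hux, hbij⟩ := h
    subst hux
    haveI := het
    let e₀ := RingEquiv.ofBijective _ hbij
    obtain ⟨j, e, he⟩ := exists_idx_of_nbhd' g u (K := ResidueField (X.presheaf.stalk (g u)))
      (e₀.symm.toRingHom.comp (U.residue u).hom) (RingHom.ext fun r => e₀.symm_apply_eq.mpr rfl)
      (fun z => (map_eq_zero_iff e₀.symm e₀.symm.injective).trans (IsLocalRing.residue_eq_zero_iff z))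
    rw [encard_fibre_components (g ≫ f) u _ (Scheme.Hom.comp_apply g f u), fibreIdeal_comp,
      card_minimalPrimes_map_congr e _ _ he]
    exact le_iSup (fun i : Idx (X.presheaf.stalk (g u)) (ResidueField (X.presheaf.stalk (g u))) =>
      ENat.card ((fibreIdeal f (g u)).map (algebraMap (X.presheaf.stalk (g u)) i.L)).minimalPrimes) j

end

end Groth.Agent.HensBranch
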